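import Cfsg.Agent.JThreeUniq.Cert1.RuleData

/-! Generated by tools/dcoset/emit.py: step words. -/

set_option Elab.async false

namespace Cfsg.Agent.JThreeUniq.Cert1

open Cfsg.Agent.DCoset Cfsg.Agent.CosetCert

def argWS_1 : Store := (.node 11 (.node 5 (.node 2 (.node 1 (.leaf 0x1) (.leaf 0x10001)) (.node 3 (.leaf 0x20001) (.node 4 (.leaf 0x30001) (.leaf 0x40001)))) (.node 8 (.node 6 (.leaf 0x50001) (.node 7 (.leaf 0x50001) (.leaf 0x0))) (.node 9 (.leaf 0x70001) (.node 10 (.leaf 0x20001) (.leaf 0x0))))) (.node 17 (.node 14 (.node 12 (.leaf 0x70001) (.node 13 (.leaf 0x0) (.leaf 0x10001))) (.node 15 (.leaf 0x0) (.node 16 (.leaf 0x1040002) (.leaf 0x0)))) (.node 20 (.node 18 (.leaf 0x10001) (.node 19 (.leaf 0x0) (.leaf 0x20001))) (.node 21 (.leaf 0x0) (.node 22 (.leaf 0x2010002) (.leaf 0x0))))))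

def argWS_2 : Store := (.node 34 (.node 28 (.node 25 (.node 24 (.leaf 0x20001) (.leaf 0x0)) (.node 26 (.leaf 0x2030002) (.node 27 (.leaf 0x0) (.leaf 0x40001)))) (.node 31 (.node 29 (.leaf 0x0) (.node 30 (.leaf 0x4020002) (.leaf 0x0))) (.node 32 (.leaf 0x20001) (.node 33 (.leaf 0x0) (.leaf 0x0))))) (.node 40 (.node 37 (.node 35 (.leaf 0x20001) (.node 36 (.leaf 0x0) (.leaf 0x2050002))) (.node 38 (.leaf 0x0) (.node 39 (.leaf 0x70001) (.leaf 0x0)))) (.node 43 (.node 41 (.leaf 0x7050002) (.node 42 (.leaf 0x0) (.leaf 0x7050002))) (.node 44 (.leaf 0x0) (.node 45 (.leaf 0x7050003) (.leaf 0x0))))))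

def argWS_3 : Store := (.node 23 argWS_1 argWS_2)

def argWS_4 : Store := (.node 57 (.node 51 (.node 48 (.node 47 (.leaf 0x4020002) (.leaf 0x0)) (.node 49 (.leaf 0x2000002) (.node 50 (.leaf 0x0) (.leaf 0x2030002)))) (.node 54 (.node 52 (.leaf 0x0) (.node 53 (.leaf 0x30207050004) (.leaf 0x0))) (.node 55 (.leaf 0x7050003) (.node 56 (.leaf 0x0) (.leaf 0x20007050004))))) (.node 63 (.node 60 (.node 58 (.leaf 0x0) (.node 59 (.leaf 0x1) (.leaf 0x0))) (.node 61 (.leaf 0x20001) (.node 62 (.leaf 0x0) (.leaf 0x50001)))) (.node 66 (.node 64 (.leaf 0x0) (.node 65 (.leaf 0x4050002) (.leaf 0x0))) (.node 67 (.leaf 0x70001) (.node 68 (.leaf 0x0) (.leaf 0x1070002))))))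

def argWS_5 : Store := (.node 81 (.node 75 (.node 72 (.node 70 (.leaf 0x0) (.node 71 (.leaf 0x70001) (.leaf 0x0))) (.node 73 (.leaf 0x701070003) (.node 74 (.leaf 0x0) (.leaf 0x2050002)))) (.node 78 (.node 76 (.leaf 0x0) (.node 77 (.leaf 0x204060003) (.leaf 0x0))) (.node 79 (.leaf 0x7050003) (.node 80 (.leaf 0x0) (.leaf 0x10007050004))))) (.node 87 (.node 84 (.node 82 (.leaf 0x0) (.node 83 (.leaf 0x204060003) (.leaf 0x0))) (.node 85 (.leaf 0x70102080004) (.node 86 (.leaf 0x0) (.leaf 0x701070003)))) (.node 90 (.node 88 (.leaf 0x0) (.node 89 (.leaf 0x5070705080006) (.leaf 0x0))) (.node 91 (.leaf 0x2010002) (.node 92 (.leaf 0x0) (.leaf 0x10205070705080007))))))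

def argWS_6 : Store := (.node 69 argWS_4 argWS_5)

def argWS_7 : Store := (.node 46 argWS_3 argWS_6)

def argWS_8 : Store := (.node 104 (.node 98 (.node 95 (.node 94 (.leaf 0x0) (.leaf 0x5070705080006)) (.node 96 (.leaf 0x0) (.node 97 (.leaf 0x20005070705080007) (.leaf 0x0)))) (.node 101 (.node 99 (.leaf 0x701070003) (.node 100 (.leaf 0x0) (.leaf 0x70107050004))) (.node 102 (.leaf 0x0) (.node 103 (.leaf 0x70001) (.leaf 0x0))))) (.node 110 (.node 107 (.node 105 (.leaf 0x40607060607090007) (.node 106 (.leaf 0x0) (.leaf 0x70107050004))) (.node 108 (.leaf 0x0) (.node 109 (.leaf 0x701060707090006) (.leaf 0x0)))) (.node 113 (.node 111 (.leaf 0x30001) (.node 112 (.leaf 0x0) (.leaf 0x20307050004))) (.node 114 (.leaf 0x0) (.node 115 (.leaf 0x2050002) (.leaf 0x0))))))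

def argWS_9 : Store := (.node 127 (.node 121 (.node 118 (.node 117 (.leaf 0x20006070705080007) (.leaf 0x0)) (.node 119 (.leaf 0x70102080004) (.node 120 (.leaf 0x0) (.leaf 0x407050003)))) (.node 124 (.node 122 (.leaf 0x0) (.node 123 (.leaf 0x407050003) (.leaf 0x0))) (.node 125 (.leaf 0x80001) (.node 126 (.leaf 0x0) (.leaf 0x20005070705080007))))) (.node 133 (.node 130 (.node 128 (.leaf 0x0) (.node 129 (.leaf 0x40301060004) (.leaf 0x0))) (.node 131 (.leaf 0x0) (.node 132 (.leaf 0x1020002) (.leaf 0x1020002)))) (.node 136 (.node 134 (.leaf 0x0) (.node 135 (.leaf 0x0) (.leaf 0x607060607090006))) (.node 137 (.leaf 0x607060607090006) (.node 138 (.leaf 0x0) (.leaf 0x0))))))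

def argWS_10 : Store := (.node 116 argWS_8 argWS_9)

def argWS_11 : Store := (.node 150 (.node 144 (.node 141 (.node 140 (.leaf 0x50001) (.leaf 0x50001)) (.node 142 (.leaf 0x0) (.node 143 (.leaf 0x10001) (.leaf 0x0)))) (.node 147 (.node 145 (.leaf 0x1070002) (.node 146 (.leaf 0x0) (.leaf 0x105070705080006))) (.node 148 (.leaf 0x0) (.node 149 (.leaf 0x10507060607090007) (.leaf 0x0))))) (.node 156 (.node 153 (.node 151 (.leaf 0x70001) (.node 152 (.leaf 0x0) (.leaf 0x5070705080005))) (.node 154 (.leaf 0x0) (.node 155 (.leaf 0x507060607090006) (.leaf 0x0)))) (.node 159 (.node 157 (.leaf 0x0) (.node 158 (.leaf 0x0) (.leaf 0x10001))) (.node 160 (.leaf 0x0) (.node 161 (.leaf 0x0) (.leaf 0x10001))))))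

def argWS_12 : Store := (.node 174 (.node 168 (.node 165 (.node 163 (.leaf 0x1000002) (.node 164 (.leaf 0x0) (.leaf 0xa0001))) (.node 166 (.leaf 0x0) (.node 167 (.leaf 0x0) (.leaf 0x10507060607090007)))) (.node 171 (.node 169 (.leaf 0x0) (.node 170 (.leaf 0x0) (.leaf 0x10507060607090007))) (.node 172 (.leaf 0x1040507060607090008) (.node 173 (.leaf 0x0) (.leaf 0xb0a0002))))) (.node 180 (.node 177 (.node 175 (.leaf 0x0) (.node 176 (.leaf 0x0) (.leaf 0x1070002))) (.node 178 (.leaf 0x0) (.node 179 (.leaf 0x0) (.leaf 0x2080002)))) (.node 183 (.node 181 (.leaf 0x107050003) (.node 182 (.leaf 0x0) (.leaf 0xe110f0f0c0005))) (.node 184 (.leaf 0x0) (.node 185 (.leaf 0x0) (.leaf 0x70001))))))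

def argWS_13 : Store := (.node 162 argWS_11 argWS_12)

def argWS_14 : Store := (.node 139 argWS_10 argWS_13)

def argWS_15 : Store := (.node 93 argWS_7 argWS_14)

def argWS_16 : Store := (.node 197 (.node 191 (.node 188 (.node 187 (.leaf 0x0) (.leaf 0x0)) (.node 189 (.leaf 0x2080002) (.node 190 (.leaf 0x3070002) (.leaf 0x0)))) (.node 194 (.node 192 (.leaf 0xf100e0003) (.node 193 (.leaf 0x0) (.leaf 0x0))) (.node 195 (.leaf 0x50709080004) (.node 196 (.leaf 0x0) (.leaf 0xd0d0e0003))))) (.node 203 (.node 200 (.node 198 (.leaf 0x0) (.node 199 (.leaf 0x0) (.leaf 0x0))) (.node 201 (.leaf 0x0) (.node 202 (.leaf 0x40001) (.leaf 0x0)))) (.node 206 (.node 204 (.leaf 0x0) (.node 205 (.leaf 0x4000002) (.leaf 0x0))) (.node 207 (.leaf 0x0) (.node 208 (.leaf 0x302050003) (.leaf 0x4000002))))))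

def argWS_17 : Store := (.node 220 (.node 214 (.node 211 (.node 210 (.leaf 0x0) (.leaf 0x302050003)) (.node 212 (.leaf 0x0) (.node 213 (.leaf 0x0) (.leaf 0x0)))) (.node 217 (.node 215 (.leaf 0x203060607090006) (.node 216 (.leaf 0x0) (.leaf 0x103060003))) (.node 218 (.leaf 0x103060003) (.node 219 (.leaf 0x0) (.leaf 0x302050003))))) (.node 226 (.node 223 (.node 221 (.leaf 0x0) (.node 222 (.leaf 0x0) (.leaf 0x0))) (.node 224 (.leaf 0x7010208050705080008) (.node 225 (.leaf 0x0) (.leaf 0x40301060004)))) (.node 229 (.node 227 (.leaf 0x40301060004) (.node 228 (.leaf 0x0) (.leaf 0x40001))) (.node 230 (.leaf 0x0) (.node 231 (.leaf 0x110d0f0c0004) (.leaf 0x0))))))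

def argWS_18 : Store := (.node 209 argWS_16 argWS_17)

def argWS_19 : Store := (.node 243 (.node 237 (.node 234 (.node 233 (.leaf 0x10001) (.leaf 0x302010607090006)) (.node 235 (.leaf 0x0) (.node 236 (.leaf 0xc100d0d0e0005) (.leaf 0x0)))) (.node 240 (.node 238 (.leaf 0xec) (.node 239 (.leaf 0xb0a0f0c0004) (.leaf 0x40001))) (.node 241 (.leaf 0x0) (.node 242 (.leaf 0x0) (.leaf 0x0))))) (.node 249 (.node 246 (.node 244 (.leaf 0x40001) (.node 245 (.leaf 0x0) (.leaf 0xa0001))) (.node 247 (.leaf 0x80001) (.node 248 (.leaf 0x0) (.leaf 0x0)))) (.node 252 (.node 250 (.leaf 0x302050705080006) (.node 251 (.leaf 0x0) (.leaf 0xd0001))) (.node 253 (.leaf 0x80001) (.node 254 (.leaf 0x0) (.leaf 0x0))))))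

def argWS_20 : Store := (.node 267 (.node 261 (.node 258 (.node 256 (.leaf 0x7010208050005) (.node 257 (.leaf 0x0) (.leaf 0xc100c0003))) (.node 259 (.leaf 0x80001) (.node 260 (.leaf 0x0) (.leaf 0x0)))) (.node 264 (.node 262 (.leaf 0x0) (.node 263 (.leaf 0x0) (.leaf 0x40001))) (.node 265 (.leaf 0x0) (.node 266 (.leaf 0x0) (.leaf 0x50001))))) (.node 273 (.node 270 (.node 268 (.leaf 0x0) (.node 269 (.leaf 0x0) (.leaf 0x204010607090006))) (.node 271 (.leaf 0x40001) (.node 272 (.leaf 0x0) (.leaf 0x4050002)))) (.node 276 (.node 274 (.leaf 0x0) (.node 275 (.leaf 0x4050002) (.leaf 0x0))) (.node 277 (.leaf 0x50001) (.node 278 (.leaf 0x0) (.leaf 0xf100b0e0004))))))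

def argWS_21 : Store := (.node 255 argWS_19 argWS_20)

def argWS_22 : Store := (.node 232 argWS_18 argWS_21)

def argWS_23 : Store := (.node 290 (.node 284 (.node 281 (.node 280 (.leaf 0x0) (.leaf 0x40001)) (.node 282 (.leaf 0x1050709080005) (.node 283 (.leaf 0x0) (.leaf 0x110d0d0e0004)))) (.node 287 (.node 285 (.leaf 0x0) (.node 286 (.leaf 0x11c) (.leaf 0xd0d0e0003))) (.node 288 (.leaf 0x0) (.node 289 (.leaf 0x0) (.leaf 0x40001))))) (.node 296 (.node 293 (.node 291 (.leaf 0x0) (.node 292 (.leaf 0xd110002) (.leaf 0x80001))) (.node 294 (.leaf 0x0) (.node 295 (.leaf 0x0) (.leaf 0x0)))) (.node 299 (.node 297 (.leaf 0x0) (.node 298 (.leaf 0x301060705080006) (.leaf 0x301060705080006))) (.node 300 (.leaf 0x0) (.node 301 (.leaf 0x301060705080006) (.leaf 0x0))))))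

def argWS_24 : Store := (.node 314 (.node 308 (.node 305 (.node 303 (.leaf 0xd100f0c0004) (.node 304 (.leaf 0x0) (.leaf 0x40001))) (.node 306 (.leaf 0x1040709080607090008) (.node 307 (.leaf 0x0) (.leaf 0xf100b0d0d0e0006)))) (.node 311 (.node 309 (.leaf 0x0) (.node 310 (.leaf 0x134) (.leaf 0xb0d0002))) (.node 312 (.leaf 0x301060705080006) (.node 313 (.leaf 0x0) (.leaf 0x0))))) (.node 320 (.node 317 (.node 315 (.leaf 0x0) (.node 316 (.leaf 0x0) (.leaf 0x0))) (.node 318 (.leaf 0x110b0e0003) (.node 319 (.leaf 0x0) (.leaf 0x2040109080607090008)))) (.node 323 (.node 321 (.leaf 0x2030108060705080008) (.node 322 (.leaf 0x0) (.leaf 0xf100b0e0004))) (.node 324 (.leaf 0x0) (.node 325 (.leaf 0x143) (.leaf 0xc100e0003))))))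

def argWS_25 : Store := (.node 302 argWS_23 argWS_24)

def argWS_26 : Store := (.node 337 (.node 331 (.node 328 (.node 327 (.leaf 0x0) (.leaf 0xe110f0c0004)) (.node 329 (.leaf 0x0) (.node 330 (.leaf 0x0) (.leaf 0xd110002)))) (.node 334 (.node 332 (.leaf 0x8060002) (.node 333 (.leaf 0x0) (.leaf 0x0))) (.node 335 (.leaf 0x0) (.node 336 (.leaf 0x0) (.leaf 0x301060705080006))))) (.node 343 (.node 340 (.node 338 (.leaf 0x0) (.node 339 (.leaf 0x0) (.leaf 0xf100d0f0c0005))) (.node 341 (.leaf 0x108060003) (.node 342 (.leaf 0x0) (.leaf 0x0)))) (.node 346 (.node 344 (.leaf 0x0) (.node 345 (.leaf 0x0) (.leaf 0x1020607090005))) (.node 347 (.leaf 0xa0001) (.node 348 (.leaf 0xd110c0003) (.leaf 0x15b))))))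

def argWS_27 : Store := (.node 361 (.node 355 (.node 352 (.node 350 (.leaf 0x100c0f0c0004) (.node 351 (.leaf 0x0) (.leaf 0x0))) (.node 353 (.leaf 0x0) (.node 354 (.leaf 0x0) (.leaf 0x0)))) (.node 358 (.node 356 (.leaf 0x0) (.node 357 (.leaf 0xf100f0003) (.leaf 0xe110d0d0e0005))) (.node 359 (.leaf 0x165) (.node 360 (.leaf 0xd0f0c0003) (.leaf 0x0))))) (.node 367 (.node 364 (.node 362 (.leaf 0x0) (.node 363 (.leaf 0x0) (.leaf 0x110c0f0c0004))) (.node 365 (.leaf 0xb0a0002) (.node 366 (.leaf 0x16c) (.leaf 0xd110c0003)))) (.node 370 (.node 368 (.leaf 0x0) (.node 369 (.leaf 0x0) (.leaf 0x0))) (.node 371 (.leaf 0x0) (.node 372 (.leaf 0x0) (.leaf 0xd110d0e0004))))))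

def argWS_28 : Store := (.node 349 argWS_26 argWS_27)

def argWS_29 : Store := (.node 326 argWS_25 argWS_28)

def argWS_30 : Store := (.node 279 argWS_22 argWS_29)

def argWS_31 : Store := (.node 186 argWS_15 argWS_30)

def argWS_32 : Store := (.node 384 (.node 378 (.node 375 (.node 374 (.leaf 0x110b0002) (.leaf 0x175)) (.node 376 (.leaf 0xf0f0c0003) (.node 377 (.leaf 0x0) (.leaf 0x0)))) (.node 381 (.node 379 (.leaf 0x0) (.node 380 (.leaf 0xd110e0003) (.leaf 0xd100f0d0e0005))) (.node 382 (.leaf 0x17c) (.node 383 (.leaf 0xc100c0003) (.leaf 0x0))))) (.node 390 (.node 387 (.node 385 (.leaf 0x0) (.node 386 (.leaf 0x0) (.leaf 0x0))) (.node 388 (.leaf 0x0) (.node 389 (.leaf 0x0) (.leaf 0x110e0002)))) (.node 393 (.node 391 (.leaf 0x100f0d0e0004) (.node 392 (.leaf 0x186) (.leaf 0xc100002))) (.node 394 (.leaf 0xc100b0f0d0e0006) (.node 395 (.leaf 0xe110d0f0c0005) (.leaf 0xd110f0d0e0005))))))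

def argWS_33 : Store := (.node 407 (.node 401 (.node 398 (.node 397 (.leaf 0xd110f0003) (.leaf 0x0)) (.node 399 (.leaf 0x302050705080006) (.node 400 (.leaf 0x20407060607090007) (.leaf 0x0)))) (.node 404 (.node 402 (.leaf 0xc100b0f0d0e0006) (.node 403 (.leaf 0x0) (.leaf 0x0))) (.node 405 (.leaf 0x702010809080006) (.node 406 (.leaf 0x304090003) (.leaf 0x0))))) (.node 413 (.node 410 (.node 408 (.leaf 0xd110c0003) (.node 409 (.leaf 0x0) (.leaf 0x0))) (.node 411 (.leaf 0x301060705080006) (.node 412 (.leaf 0x4030809080607090008) (.leaf 0x0)))) (.node 416 (.node 414 (.leaf 0xf100e0003) (.node 415 (.leaf 0x0) (.leaf 0x19e00019800019200018c00018b00018a))) (.node 417 (.leaf 0x110b0002) (.node 418 (.leaf 0x0) (.leaf 0x0))))))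

def argWS_34 : Store := (.node 396 argWS_32 argWS_33)

def argWS_35 : Store := (.node 430 (.node 424 (.node 421 (.node 420 (.leaf 0x301070003) (.leaf 0x0)) (.node 422 (.leaf 0x0) (.node 423 (.leaf 0x0) (.leaf 0xe100e0003)))) (.node 427 (.node 425 (.leaf 0xf100b0f0004) (.node 426 (.leaf 0x110f0d0e0004) (.leaf 0xf100d0e0004))) (.node 428 (.leaf 0x0) (.node 429 (.leaf 0x207060607090006) (.leaf 0x104080607090006))))) (.node 436 (.node 433 (.node 431 (.leaf 0x0) (.node 432 (.leaf 0xb0a0e0003) (.leaf 0x0))) (.node 434 (.leaf 0x0) (.node 435 (.leaf 0x40301060004) (.leaf 0x30208050004)))) (.node 439 (.node 437 (.leaf 0x0) (.node 438 (.leaf 0xf100e0003) (.leaf 0x0))) (.node 440 (.leaf 0x0) (.node 441 (.leaf 0x4050002) (.leaf 0x40208060004))))))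

def argWS_36 : Store := (.node 454 (.node 448 (.node 445 (.node 443 (.leaf 0x0) (.node 444 (.leaf 0xf100e0003) (.leaf 0x0))) (.node 446 (.leaf 0x1bc0001b60001b00001aa0001a90001a8) (.node 447 (.leaf 0x110b0002) (.leaf 0x0)))) (.node 451 (.node 449 (.leaf 0x0) (.node 450 (.leaf 0x30107050004) (.leaf 0x0))) (.node 452 (.leaf 0x0) (.node 453 (.leaf 0xc100e0003) (.leaf 0x0))))) (.node 460 (.node 457 (.node 455 (.leaf 0x20709080004) (.node 456 (.leaf 0x10005080004) (.leaf 0x0))) (.node 458 (.leaf 0x100f0d0e0004) (.node 459 (.leaf 0x0) (.leaf 0x110b0d0e0004)))) (.node 463 (.node 461 (.leaf 0xc100f0d0e0005) (.node 462 (.leaf 0xc100b0f0f0c0006) (.leaf 0x0))) (.node 464 (.leaf 0x40301060004) (.node 465 (.leaf 0x408060607090006) (.leaf 0x0))))))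

def argWS_37 : Store := (.node 442 argWS_35 argWS_36)

def argWS_38 : Store := (.node 419 argWS_34 argWS_37)

def argWS_39 : Store := (.node 477 (.node 471 (.node 468 (.node 467 (.leaf 0xc100b0003) (.leaf 0x0)) (.node 469 (.leaf 0xc100d0003) (.node 470 (.leaf 0x1d40001d30001cd0001cc0001cb0001ca) (.leaf 0xc100d0003)))) (.node 474 (.node 472 (.leaf 0x0) (.node 473 (.leaf 0x0) (.leaf 0x3000507050005))) (.node 475 (.leaf 0x0) (.node 476 (.leaf 0x0) (.leaf 0x0))))) (.node 483 (.node 480 (.node 478 (.leaf 0x701070705080006) (.node 479 (.leaf 0x0) (.leaf 0x110b0f0f0c0005))) (.node 481 (.leaf 0x80001) (.node 482 (.leaf 0x0) (.leaf 0x0)))) (.node 486 (.node 484 (.leaf 0x0) (.node 485 (.leaf 0x0) (.leaf 0x4050705080005))) (.node 487 (.leaf 0x0) (.node 488 (.leaf 0x0) (.leaf 0xb0d0d0e0004))))))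

def argWS_40 : Store := (.node 501 (.node 495 (.node 492 (.node 490 (.leaf 0x70001) (.node 491 (.leaf 0x0) (.leaf 0x0))) (.node 493 (.leaf 0x0) (.node 494 (.leaf 0x0) (.leaf 0x7020108050705080008)))) (.node 498 (.node 496 (.leaf 0x100f0002) (.node 497 (.leaf 0x0) (.leaf 0x2040109080607090008))) (.node 499 (.leaf 0x304090003) (.node 500 (.leaf 0x0) (.leaf 0xa0d0002))))) (.node 507 (.node 504 (.node 502 (.leaf 0x0) (.node 503 (.leaf 0x1f5) (.leaf 0xd100d0003))) (.node 505 (.leaf 0x0) (.node 506 (.leaf 0xe110f0c0004) (.leaf 0x0)))) (.node 510 (.node 508 (.leaf 0x0) (.node 509 (.leaf 0x20709080004) (.leaf 0x0))) (.node 511 (.leaf 0xb0a0c0f0c0005) (.node 512 (.leaf 0x70001) (.leaf 0x0))))))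

def argWS_41 : Store := (.node 489 argWS_39 argWS_40)

def argWS_42 : Store := (.node 524 (.node 518 (.node 515 (.node 514 (.leaf 0x0) (.leaf 0x0)) (.node 516 (.leaf 0x0) (.node 517 (.leaf 0x1020905080005) (.leaf 0x0)))) (.node 521 (.node 519 (.leaf 0x0) (.node 520 (.leaf 0x20709080004) (.leaf 0x0))) (.node 522 (.leaf 0xd110d0f0c0005) (.node 523 (.leaf 0x1070002) (.leaf 0x0))))) (.node 530 (.node 527 (.node 525 (.leaf 0x0) (.node 526 (.leaf 0x0) (.leaf 0x0))) (.node 528 (.leaf 0x400060607090006) (.node 529 (.leaf 0x110c0f0c0004) (.leaf 0xb0a0002)))) (.node 533 (.node 531 (.leaf 0x211) (.node 532 (.leaf 0xd110c0003) (.leaf 0x0))) (.node 534 (.leaf 0x0) (.node 535 (.leaf 0x0) (.leaf 0x0))))))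

def argWS_43 : Store := (.node 548 (.node 542 (.node 539 (.node 537 (.leaf 0x0) (.node 538 (.leaf 0xe100f0d0e0005) (.leaf 0xe100e0003))) (.node 540 (.leaf 0x21a) (.node 541 (.leaf 0xf100d0f0c0005) (.leaf 0x0)))) (.node 545 (.node 543 (.leaf 0x0) (.node 544 (.leaf 0x0) (.leaf 0x0))) (.node 546 (.leaf 0x0) (.node 547 (.leaf 0x0) (.leaf 0x0))))) (.node 554 (.node 551 (.node 549 (.leaf 0x0) (.node 550 (.leaf 0x0) (.leaf 0x0))) (.node 552 (.leaf 0x0) (.node 553 (.leaf 0x0) (.leaf 0xd0d0e0003)))) (.node 557 (.node 555 (.leaf 0xe110d0e0004) (.node 556 (.leaf 0x22a) (.leaf 0x100b0d0d0e0005))) (.node 558 (.leaf 0x0) (.node 559 (.leaf 0x0) (.leaf 0x0))))))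

def argWS_44 : Store := (.node 536 argWS_42 argWS_43)

def argWS_45 : Store := (.node 513 argWS_41 argWS_44)

def argWS_46 : Store := (.node 466 argWS_38 argWS_45)

def argWS_47 : Store := (.node 571 (.node 565 (.node 562 (.node 561 (.leaf 0x0) (.leaf 0x0)) (.node 563 (.leaf 0x0) (.node 564 (.leaf 0xe110f0d0e0005) (.leaf 0xd110f0d0e0005)))) (.node 568 (.node 566 (.leaf 0x234) (.node 567 (.leaf 0xf100b0d0f0c0006) (.leaf 0x0))) (.node 569 (.leaf 0x0) (.node 570 (.leaf 0x0) (.leaf 0x0))))) (.node 577 (.node 574 (.node 572 (.leaf 0x0) (.node 573 (.leaf 0x0) (.leaf 0x0))) (.node 575 (.leaf 0x0) (.node 576 (.leaf 0x0) (.leaf 0x0)))) (.node 580 (.node 578 (.leaf 0x0) (.node 579 (.leaf 0x0) (.leaf 0x0))) (.node 581 (.leaf 0x0) (.node 582 (.leaf 0x0) (.leaf 0x0))))))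

def argWS_48 : Store := (.node 594 (.node 588 (.node 585 (.node 584 (.leaf 0x0) (.leaf 0x0)) (.node 586 (.leaf 0x0) (.node 587 (.leaf 0x0) (.leaf 0x0)))) (.node 591 (.node 589 (.leaf 0x0) (.node 590 (.leaf 0x0) (.leaf 0xd0001))) (.node 592 (.leaf 0xc0f0c0003) (.node 593 (.leaf 0xc100b0003) (.leaf 0xf100c0f0c0005))))) (.node 600 (.node 597 (.node 595 (.leaf 0x0) (.node 596 (.leaf 0x701070705080006) (.leaf 0x10408050705080007))) (.node 598 (.leaf 0x0) (.node 599 (.leaf 0x100b0d0d0e0005) (.leaf 0x0)))) (.node 603 (.node 601 (.leaf 0x100f0d0e0004) (.node 602 (.leaf 0xe100c0f0c0005) (.leaf 0x25900025800025700025100025000024f))) (.node 604 (.leaf 0x0) (.node 605 (.leaf 0x0) (.leaf 0x90002))))))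

def argWS_49 : Store := (.node 583 argWS_47 argWS_48)

def argWS_50 : Store := (.node 617 (.node 611 (.node 608 (.node 607 (.leaf 0xe100e0003) (.leaf 0xf100b0f0004)) (.node 609 (.leaf 0x110f0d0e0004) (.node 610 (.leaf 0xf100d0e0004) (.leaf 0x0)))) (.node 614 (.node 612 (.leaf 0x4050002) (.node 613 (.leaf 0x1040507060607090008) (.leaf 0x0))) (.node 615 (.leaf 0x100b0d0d0e0005) (.node 616 (.leaf 0x0) (.leaf 0x100001))))) (.node 623 (.node 620 (.node 618 (.leaf 0xd110d0003) (.node 619 (.leaf 0x26900026800026700026100026000025f) (.leaf 0x0))) (.node 621 (.leaf 0x4050705080005) (.node 622 (.leaf 0x30408050705080007) (.leaf 0x0)))) (.node 626 (.node 624 (.leaf 0x0) (.node 625 (.leaf 0x0) (.leaf 0x110001))) (.node 627 (.leaf 0x0) (.node 628 (.leaf 0xf100b0003) (.leaf 0x0))))))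

def argWS_51 : Store := (.node 641 (.node 635 (.node 632 (.node 630 (.leaf 0x0) (.node 631 (.leaf 0x0) (.leaf 0x0))) (.node 633 (.leaf 0x0) (.node 634 (.leaf 0x0) (.leaf 0x0)))) (.node 638 (.node 636 (.leaf 0x0) (.node 637 (.leaf 0xc100e0003) (.leaf 0xf100b0f0c0005))) (.node 639 (.leaf 0x27d) (.node 640 (.leaf 0xc100b0d0004) (.leaf 0x0))))) (.node 647 (.node 644 (.node 642 (.leaf 0x0) (.node 643 (.leaf 0x0) (.leaf 0x0))) (.node 645 (.leaf 0x0) (.node 646 (.leaf 0x0) (.leaf 0x0)))) (.node 650 (.node 648 (.leaf 0x0) (.node 649 (.leaf 0x0) (.leaf 0x0))) (.node 651 (.leaf 0x0) (.node 652 (.leaf 0x0) (.leaf 0x0))))))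

def argWS_52 : Store := (.node 629 argWS_50 argWS_51)

def argWS_53 : Store := (.node 606 argWS_49 argWS_52)

def argWS_54 : Store := (.node 664 (.node 658 (.node 655 (.node 654 (.leaf 0xe100f0f0c0005) (.leaf 0xf100b0d0e0005)) (.node 656 (.leaf 0x0) (.node 657 (.leaf 0x4050002) (.leaf 0x203010809080006)))) (.node 661 (.node 659 (.leaf 0x0) (.node 660 (.leaf 0xb0a0c0003) (.leaf 0x0))) (.node 662 (.leaf 0x0) (.node 663 (.leaf 0x2040109080607090008) (.leaf 0x701000607050705080009))))) (.node 670 (.node 667 (.node 665 (.leaf 0x0) (.node 666 (.leaf 0xd110d0003) (.leaf 0x0))) (.node 668 (.leaf 0xe100d0d0e0005) (.node 669 (.leaf 0x0) (.leaf 0x403070905080006)))) (.node 673 (.node 671 (.leaf 0x102080607090006) (.node 672 (.leaf 0x0) (.leaf 0xa0f0d0e0004))) (.node 674 (.leaf 0x0) (.node 675 (.leaf 0xf100f0f0c0005) (.leaf 0x2a20002a100029b00029a00029400028e))))))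

def argWS_55 : Store := (.node 688 (.node 682 (.node 679 (.node 677 (.leaf 0x100b0002) (.node 678 (.leaf 0x0) (.leaf 0x0))) (.node 680 (.leaf 0x301060705080006) (.node 681 (.leaf 0x2070705080005) (.leaf 0x0)))) (.node 685 (.node 683 (.leaf 0xb0f0f0c0004) (.node 684 (.leaf 0x0) (.leaf 0x0))) (.node 686 (.leaf 0x0) (.node 687 (.leaf 0x0) (.leaf 0x7010002))))) (.node 694 (.node 691 (.node 689 (.leaf 0x0) (.node 690 (.leaf 0x0) (.leaf 0x110b0f0003))) (.node 692 (.leaf 0x0) (.node 693 (.leaf 0x10001) (.leaf 0x0)))) (.node 697 (.node 695 (.leaf 0x0) (.node 696 (.leaf 0x110b0f0003) (.leaf 0x0))) (.node 698 (.leaf 0x1080002) (.node 699 (.leaf 0x0) (.leaf 0x0))))))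

def argWS_56 : Store := (.node 676 argWS_54 argWS_55)

def argWS_57 : Store := (.node 711 (.node 705 (.node 702 (.node 701 (.leaf 0xf100b0d0004) (.leaf 0x0)) (.node 703 (.leaf 0x0) (.node 704 (.leaf 0x0) (.leaf 0x0)))) (.node 708 (.node 706 (.leaf 0x0) (.node 707 (.leaf 0x0) (.leaf 0x3020107090005))) (.node 709 (.leaf 0x0) (.node 710 (.leaf 0x204050707090006) (.leaf 0x204050707090006))))) (.node 717 (.node 714 (.node 712 (.leaf 0x0) (.node 713 (.leaf 0x0) (.leaf 0x0))) (.node 715 (.leaf 0x20409080004) (.node 716 (.leaf 0x0) (.leaf 0x0)))) (.node 720 (.node 718 (.leaf 0x0) (.node 719 (.leaf 0xc100b0d0f0c0006) (.leaf 0xe100002))) (.node 721 (.leaf 0x2cf) (.node 722 (.leaf 0xb0f0002) (.leaf 0x0))))))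

def argWS_58 : Store := (.node 735 (.node 729 (.node 726 (.node 724 (.leaf 0x0) (.node 725 (.leaf 0x0) (.leaf 0xb0d0f0c0004))) (.node 727 (.leaf 0x100b0002) (.node 728 (.leaf 0xd100d0003) (.leaf 0x0)))) (.node 732 (.node 730 (.leaf 0x60001) (.node 731 (.leaf 0x2010507060705080008) (.leaf 0x0))) (.node 733 (.leaf 0x100f0002) (.node 734 (.leaf 0x0) (.leaf 0x100001))))) (.node 741 (.node 738 (.node 736 (.leaf 0xd100d0003) (.node 737 (.leaf 0x110d0002) (.leaf 0x2e00002df0002de0002dd0002d70002d6))) (.node 739 (.leaf 0x100b0d0003) (.node 740 (.leaf 0x0) (.leaf 0x0)))) (.node 744 (.node 742 (.leaf 0x0) (.node 743 (.leaf 0xb0f0d0e0004) (.leaf 0xe110f0c0004))) (.node 745 (.leaf 0xe110d0d0e0005) (.node 746 (.leaf 0xb0a0d0f0c0005) (.leaf 0xc100d0003))))))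

def argWS_59 : Store := (.node 723 argWS_57 argWS_58)

def argWS_60 : Store := (.node 700 argWS_56 argWS_59)

def argWS_61 : Store := (.node 653 argWS_53 argWS_60)

def argWS_62 : Store := (.node 560 argWS_46 argWS_61)

def argWS_63 : Store := (.node 373 argWS_31 argWS_62)

def argWS_64 : Store := (.node 758 (.node 752 (.node 749 (.node 748 (.leaf 0xe110f0c0004) (.leaf 0xe110d0d0e0005)) (.node 750 (.leaf 0x2ec0002eb0002ea0002e90002e80002e7) (.node 751 (.leaf 0x110b0c0003) (.leaf 0x0)))) (.node 755 (.node 753 (.leaf 0xd100d0d0e0005) (.node 754 (.leaf 0x0) (.leaf 0x0))) (.node 756 (.leaf 0x0) (.node 757 (.leaf 0x7010002) (.leaf 0x0))))) (.node 764 (.node 761 (.node 759 (.leaf 0x0) (.node 760 (.leaf 0xd100f0003) (.leaf 0x10001))) (.node 762 (.leaf 0x0) (.node 763 (.leaf 0x0) (.leaf 0xc100f0d0e0005)))) (.node 767 (.node 765 (.leaf 0x0) (.node 766 (.leaf 0x0) (.leaf 0x0))) (.node 768 (.leaf 0x0) (.node 769 (.leaf 0x0) (.leaf 0x0))))))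

def argWS_65 : Store := (.node 781 (.node 775 (.node 772 (.node 771 (.leaf 0x0) (.leaf 0x0)) (.node 773 (.leaf 0x110f0c0003) (.node 774 (.leaf 0x110b0f0c0004) (.leaf 0x305)))) (.node 778 (.node 776 (.leaf 0xf100c0f0c0005) (.node 777 (.leaf 0x0) (.leaf 0x0))) (.node 779 (.leaf 0x0) (.node 780 (.leaf 0x0) (.leaf 0xf0001))))) (.node 787 (.node 784 (.node 782 (.leaf 0x110d0e0003) (.node 783 (.leaf 0x30d) (.leaf 0x100b0d0003))) (.node 785 (.leaf 0x100b0f0d0e0005) (.node 786 (.leaf 0x110b0f0d0e0005) (.leaf 0xf100d0e0004)))) (.node 790 (.node 788 (.leaf 0x110b0d0003) (.node 789 (.leaf 0xe100d0d0e0005) (.leaf 0x110d0002))) (.node 791 (.leaf 0xc100b0003) (.node 792 (.leaf 0x316000315000314000313000312000311) (.leaf 0xc100d0003))))))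

def argWS_66 : Store := (.node 770 argWS_64 argWS_65)

def argWS_67 : Store := (.node 804 (.node 798 (.node 795 (.node 794 (.leaf 0x0) (.leaf 0xd100d0d0e0005)) (.node 796 (.leaf 0xd110d0e0004) (.node 797 (.leaf 0xc100f0f0c0005) (.leaf 0xb0c0002)))) (.node 801 (.node 799 (.leaf 0x0) (.node 800 (.leaf 0x90002) (.leaf 0x80905080005))) (.node 802 (.leaf 0x0) (.node 803 (.leaf 0xd0001) (.leaf 0x0))))) (.node 810 (.node 807 (.node 805 (.leaf 0xa0c0f0c0004) (.node 806 (.leaf 0xd100d0003) (.leaf 0x110d0002))) (.node 808 (.leaf 0x32600032500032400032300031d00031c) (.node 809 (.leaf 0x100b0d0003) (.leaf 0x0)))) (.node 813 (.node 811 (.leaf 0xe100c0f0c0005) (.node 812 (.leaf 0x0) (.leaf 0x0))) (.node 814 (.leaf 0x0) (.node 815 (.leaf 0x0) (.leaf 0x0))))))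

def argWS_68 : Store := (.node 828 (.node 822 (.node 819 (.node 817 (.leaf 0xf100b0c0004) (.node 818 (.leaf 0x0) (.leaf 0x20709080004))) (.node 820 (.leaf 0x7010507060705080008) (.node 821 (.leaf 0x0) (.leaf 0xc100b0c0f0c0006)))) (.node 825 (.node 823 (.leaf 0x0) (.node 824 (.leaf 0xb0e0002) (.leaf 0x0))) (.node 826 (.leaf 0x702010809080006) (.node 827 (.leaf 0x1040607060005) (.leaf 0x0))))) (.node 834 (.node 831 (.node 829 (.leaf 0x100f0d0e0004) (.node 830 (.leaf 0x0) (.leaf 0x0))) (.node 832 (.leaf 0x2040109080607090008) (.node 833 (.leaf 0x20408060705080007) (.leaf 0x0)))) (.node 837 (.node 835 (.leaf 0xa0001) (.node 836 (.leaf 0x0) (.leaf 0xe100e0003))) (.node 838 (.leaf 0x110b0f0f0c0005) (.node 839 (.leaf 0x34500034400034300033d000337000336) (.leaf 0xe110f0c0004))))))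

def argWS_69 : Store := (.node 816 argWS_67 argWS_68)

def argWS_70 : Store := (.node 793 argWS_66 argWS_69)

def argWS_71 : Store := (.node 851 (.node 845 (.node 842 (.node 841 (.leaf 0x0) (.leaf 0x0)) (.node 843 (.leaf 0x0) (.node 844 (.leaf 0x0) (.leaf 0x0)))) (.node 848 (.node 846 (.leaf 0x0) (.node 847 (.leaf 0x0) (.leaf 0x0))) (.node 849 (.leaf 0x0) (.node 850 (.leaf 0xf100f0f0c0005) (.leaf 0xd110f0d0e0005))))) (.node 857 (.node 854 (.node 852 (.leaf 0x110e0002) (.node 853 (.leaf 0x110b0d0003) (.leaf 0xf100b0f0f0c0006))) (.node 855 (.leaf 0x110e0002) (.node 856 (.leaf 0x100b0d0003) (.leaf 0x357000356000355000354000353000352)))) (.node 860 (.node 858 (.leaf 0xc100c0003) (.node 859 (.leaf 0x0) (.leaf 0xd110d0003))) (.node 861 (.leaf 0x0) (.node 862 (.leaf 0x0) (.leaf 0x0))))))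

def argWS_72 : Store := (.node 874 (.node 868 (.node 865 (.node 864 (.leaf 0x0) (.leaf 0x203010705080006)) (.node 866 (.leaf 0x0) (.node 867 (.leaf 0x0) (.leaf 0xb0a0d0e0004)))) (.node 871 (.node 869 (.leaf 0x0) (.node 870 (.leaf 0x0) (.leaf 0x0))) (.node 872 (.leaf 0x0) (.node 873 (.leaf 0x0) (.leaf 0x0))))) (.node 880 (.node 877 (.node 875 (.leaf 0x0) (.node 876 (.leaf 0x100b0d0d0e0005) (.leaf 0x0))) (.node 878 (.leaf 0x20709080004) (.node 879 (.leaf 0x3020105070908060709000a) (.leaf 0x0)))) (.node 883 (.node 881 (.leaf 0x100c0f0c0004) (.node 882 (.leaf 0x0) (.leaf 0xb0a0d0d0e0005))) (.node 884 (.leaf 0x0) (.node 885 (.leaf 0x20309080004) (.leaf 0x1030507060005))))))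

def argWS_73 : Store := (.node 863 argWS_71 argWS_72)

def argWS_74 : Store := (.node 897 (.node 891 (.node 888 (.node 887 (.leaf 0x0) (.leaf 0x100b0f0003)) (.node 889 (.leaf 0x0) (.node 890 (.leaf 0x110001) (.leaf 0xf100b0f0f0c0006)))) (.node 894 (.node 892 (.leaf 0x110b0002) (.node 893 (.leaf 0x37b00037a000379000378000372000371) (.leaf 0x110b0d0003))) (.node 895 (.leaf 0x0) (.node 896 (.leaf 0x0) (.leaf 0x400060607090006))))) (.node 903 (.node 900 (.node 898 (.leaf 0x3070607090005) (.node 899 (.leaf 0x0) (.leaf 0x0))) (.node 901 (.leaf 0x0) (.node 902 (.leaf 0xa0d0e0003) (.leaf 0x0)))) (.node 906 (.node 904 (.leaf 0x0) (.node 905 (.leaf 0x0) (.leaf 0x0))) (.node 907 (.leaf 0x0) (.node 908 (.leaf 0x0) (.leaf 0x0))))))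

def argWS_75 : Store := (.node 921 (.node 915 (.node 912 (.node 910 (.leaf 0x0) (.node 911 (.leaf 0x0) (.leaf 0x0))) (.node 913 (.leaf 0x0) (.node 914 (.leaf 0x0) (.leaf 0x100f0d0e0004)))) (.node 918 (.node 916 (.leaf 0x100b0f0d0e0005) (.node 917 (.leaf 0x100b0f0d0e0005) (.leaf 0x100b0d0f0c0005))) (.node 919 (.leaf 0x0) (.node 920 (.leaf 0x301060705080006) (.leaf 0x30201080004))))) (.node 927 (.node 924 (.node 922 (.leaf 0x0) (.node 923 (.leaf 0xf100b0d0e0005) (.leaf 0x0))) (.node 925 (.leaf 0x100b0d0003) (.node 926 (.leaf 0xd100d0003) (.leaf 0x39d00039c00039b000395000394000393)))) (.node 930 (.node 928 (.leaf 0xf100f0f0c0005) (.node 929 (.leaf 0x0) (.leaf 0xd100e0003))) (.node 931 (.leaf 0xc100f0d0e0005) (.node 932 (.leaf 0xe100d0f0c0005) (.leaf 0x110b0f0003))))))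

def argWS_76 : Store := (.node 909 argWS_74 argWS_75)

def argWS_77 : Store := (.node 886 argWS_73 argWS_76)

def argWS_78 : Store := (.node 840 argWS_70 argWS_77)

def argWS_79 : Store := (.node 944 (.node 938 (.node 935 (.node 934 (.leaf 0xf100d0e0004) (.leaf 0x0)) (.node 936 (.leaf 0x20709080004) (.node 937 (.leaf 0x104080607090006) (.leaf 0x0)))) (.node 941 (.node 939 (.leaf 0xb0a0f0f0c0005) (.node 940 (.leaf 0x0) (.leaf 0x0))) (.node 942 (.leaf 0x301060705080006) (.node 943 (.leaf 0x20006070905080007) (.leaf 0x0))))) (.node 950 (.node 947 (.node 945 (.leaf 0xb0d0f0c0004) (.node 946 (.leaf 0x0) (.leaf 0xb0001))) (.node 948 (.leaf 0x3b20003b10003ab0003a50003a40003a3) (.node 949 (.leaf 0xa0f0002) (.leaf 0x0)))) (.node 953 (.node 951 (.leaf 0x0) (.node 952 (.leaf 0x0) (.leaf 0x0))) (.node 954 (.leaf 0x1030705080005) (.node 955 (.leaf 0x0) (.leaf 0x0))))))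

def argWS_80 : Store := (.node 967 (.node 961 (.node 958 (.node 957 (.leaf 0x0) (.leaf 0x0)) (.node 959 (.leaf 0xb0d0f0c0004) (.node 960 (.leaf 0xc100c0003) (.leaf 0x3bf)))) (.node 964 (.node 962 (.leaf 0xd100d0f0c0005) (.node 963 (.leaf 0x0) (.leaf 0xb0f0c0003))) (.node 965 (.leaf 0xc100d0e0004) (.node 966 (.leaf 0xf100b0d0e0005) (.leaf 0xe100e0003))))) (.node 973 (.node 970 (.node 968 (.leaf 0xf100b0f0c0005) (.node 969 (.leaf 0xf0001) (.leaf 0xb0d0002))) (.node 971 (.leaf 0xf0d0e0003) (.node 972 (.leaf 0x3ca0003c90003c80003c70003c60003c5) (.leaf 0xb0d0002)))) (.node 976 (.node 974 (.leaf 0x0) (.node 975 (.leaf 0x0) (.leaf 0x1020905080005))) (.node 977 (.leaf 0x20008050705080007) (.node 978 (.leaf 0x0) (.leaf 0x0))))))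

def argWS_81 : Store := (.node 956 argWS_79 argWS_80)

def argWS_82 : Store := (.node 990 (.node 984 (.node 981 (.node 980 (.leaf 0x0) (.leaf 0xe100d0d0e0005)) (.node 982 (.leaf 0xe110002) (.node 983 (.leaf 0x100b0f0d0e0005) (.leaf 0x3d6)))) (.node 987 (.node 985 (.leaf 0xf100b0f0004) (.node 986 (.leaf 0x0) (.leaf 0xe100f0f0c0005))) (.node 988 (.leaf 0x0) (.node 989 (.leaf 0x0) (.leaf 0xd110d0003))))) (.node 996 (.node 993 (.node 991 (.leaf 0xd110e0003) (.node 992 (.leaf 0x3de) (.leaf 0xc100b0d0e0005))) (.node 994 (.leaf 0x0) (.node 995 (.leaf 0x0) (.leaf 0x0)))) (.node 999 (.node 997 (.leaf 0x100d0002) (.node 998 (.leaf 0xc0001) (.leaf 0xd110d0e0004))) (.node 1000 (.leaf 0xc100f0f0c0005) (.node 1001 (.leaf 0xe100d0f0c0005) (.leaf 0xf100b0d0004))))))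

def argWS_83 : Store := (.node 1014 (.node 1008 (.node 1005 (.node 1003 (.leaf 0xe110f0c0004) (.node 1004 (.leaf 0x402010607090006) (.leaf 0x0))) (.node 1006 (.leaf 0x3ec0003e90003e80003e70003e60003e5) (.node 1007 (.leaf 0xf100d0003) (.leaf 0x0)))) (.node 1011 (.node 1009 (.leaf 0x0) (.node 1010 (.leaf 0x0) (.leaf 0x3090002))) (.node 1012 (.leaf 0x0) (.node 1013 (.leaf 0x0) (.leaf 0xc100b0c0004))))) (.node 1020 (.node 1017 (.node 1015 (.leaf 0x10001) (.node 1016 (.leaf 0x0) (.leaf 0x0))) (.node 1018 (.leaf 0xe110d0d0e0005) (.node 1019 (.leaf 0x0) (.leaf 0x0)))) (.node 1023 (.node 1021 (.leaf 0x0) (.node 1022 (.leaf 0x0) (.leaf 0x0))) (.node 1024 (.leaf 0x0) (.node 1025 (.leaf 0xd110d0e0004) (.leaf 0xc100f0f0c0005))))))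

def argWS_84 : Store := (.node 1002 argWS_82 argWS_83)

def argWS_85 : Store := (.node 979 argWS_81 argWS_84)

def argWS_86 : Store := (.node 1037 (.node 1031 (.node 1028 (.node 1027 (.leaf 0xc0001) (.leaf 0xe100d0f0c0005)) (.node 1029 (.leaf 0x4030002) (.node 1030 (.leaf 0x0) (.leaf 0xf100f0c0004)))) (.node 1034 (.node 1032 (.leaf 0xf0001) (.node 1033 (.leaf 0x110b0d0003) (.leaf 0x408000407000406000405000402000401))) (.node 1035 (.leaf 0x110b0d0003) (.node 1036 (.leaf 0x0) (.leaf 0xf100b0d0d0e0006))))) (.node 1043 (.node 1040 (.node 1038 (.leaf 0x0) (.node 1039 (.leaf 0x0) (.leaf 0x0))) (.node 1041 (.leaf 0x701070607090006) (.node 1042 (.leaf 0x0) (.leaf 0x0)))) (.node 1046 (.node 1044 (.leaf 0x110c0f0c0004) (.node 1045 (.leaf 0x0) (.leaf 0x0))) (.node 1047 (.leaf 0x0) (.node 1048 (.leaf 0x0) (.leaf 0x0))))))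

def argWS_87 : Store := (.node 1061 (.node 1055 (.node 1052 (.node 1050 (.leaf 0x0) (.node 1051 (.leaf 0xc100b0c0004) (.leaf 0x100b0d0e0004))) (.node 1053 (.leaf 0x41b) (.node 1054 (.leaf 0x100d0002) (.leaf 0x0)))) (.node 1058 (.node 1056 (.leaf 0x110b0f0d0e0005) (.node 1057 (.leaf 0x0) (.leaf 0x0))) (.node 1059 (.leaf 0x0) (.node 1060 (.leaf 0x0) (.leaf 0xc100b0e0004))))) (.node 1067 (.node 1064 (.node 1062 (.leaf 0xc0001) (.node 1063 (.leaf 0xa0e0002) (.leaf 0x0))) (.node 1065 (.leaf 0x20309080004) (.node 1066 (.leaf 0x2030607060005) (.leaf 0x0)))) (.node 1070 (.node 1068 (.leaf 0xf100b0d0e0005) (.node 1069 (.leaf 0x0) (.leaf 0x0))) (.node 1071 (.leaf 0x301060705080006) (.node 1072 (.leaf 0x401080607090006) (.leaf 0x0))))))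

def argWS_88 : Store := (.node 1049 argWS_86 argWS_87)

def argWS_89 : Store := (.node 1084 (.node 1078 (.node 1075 (.node 1074 (.leaf 0xf100002) (.leaf 0x0)) (.node 1076 (.leaf 0x110b0c0003) (.node 1077 (.leaf 0xf100b0f0f0c0006) (.leaf 0x43400043300043200042c000426000425)))) (.node 1081 (.node 1079 (.leaf 0x110b0002) (.node 1080 (.leaf 0x0) (.leaf 0x0))) (.node 1082 (.leaf 0xe100c0f0c0005) (.node 1083 (.leaf 0xf0c0002) (.leaf 0x43a))))) (.node 1090 (.node 1087 (.node 1085 (.leaf 0xe110d0003) (.node 1086 (.leaf 0x0) (.leaf 0x0))) (.node 1088 (.leaf 0x0) (.node 1089 (.leaf 0x0) (.leaf 0xd110c0f0c0005)))) (.node 1093 (.node 1091 (.leaf 0x0) (.node 1092 (.leaf 0x7020108050705080008) (.leaf 0x204010607060607090009))) (.node 1094 (.leaf 0x0) (.node 1095 (.leaf 0xf100b0d0e0005) (.leaf 0x0))))))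

def argWS_90 : Store := (.node 1108 (.node 1102 (.node 1099 (.node 1097 (.leaf 0x447) (.node 1098 (.leaf 0x100d0f0c0004) (.leaf 0xc100b0d0e0005))) (.node 1100 (.leaf 0x0) (.node 1101 (.leaf 0x4050705080005) (.leaf 0x20008060004)))) (.node 1105 (.node 1103 (.leaf 0x0) (.node 1104 (.leaf 0xc100b0003) (.leaf 0x0))) (.node 1106 (.leaf 0xe110e0003) (.node 1107 (.leaf 0x110e0002) (.leaf 0x100b0d0003))))) (.node 1114 (.node 1111 (.node 1109 (.leaf 0xd110d0003) (.node 1110 (.leaf 0x4030607090005) (.leaf 0x0))) (.node 1112 (.leaf 0xe110f0003) (.node 1113 (.leaf 0x457000456000453000452000451000450) (.leaf 0x100c0002)))) (.node 1117 (.node 1115 (.leaf 0x0) (.node 1116 (.leaf 0x0) (.leaf 0x7020108050705080008))) (.node 1118 (.leaf 0x701020607090006) (.node 1119 (.leaf 0x0) (.leaf 0xe0001))))))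

def argWS_91 : Store := (.node 1096 argWS_89 argWS_90)

def argWS_92 : Store := (.node 1073 argWS_88 argWS_91)

def argWS_93 : Store := (.node 1026 argWS_85 argWS_92)

def argWS_94 : Store := (.node 933 argWS_78 argWS_93)

def argWS_95 : Store := (.node 1131 (.node 1125 (.node 1122 (.node 1121 (.leaf 0x0) (.leaf 0x0)) (.node 1123 (.leaf 0x0) (.node 1124 (.leaf 0x0) (.leaf 0x0)))) (.node 1128 (.node 1126 (.leaf 0x70102080607090007) (.node 1127 (.leaf 0x10001) (.leaf 0x0))) (.node 1129 (.leaf 0x0) (.node 1130 (.leaf 0x100f0c0003) (.leaf 0x0))))) (.node 1137 (.node 1134 (.node 1132 (.leaf 0x0) (.node 1133 (.leaf 0x0) (.leaf 0x0))) (.node 1135 (.leaf 0x0) (.node 1136 (.leaf 0x0) (.leaf 0x0)))) (.node 1140 (.node 1138 (.leaf 0x0) (.node 1139 (.leaf 0x0) (.leaf 0xd110f0d0e0005))) (.node 1141 (.leaf 0xd110f0003) (.node 1142 (.leaf 0xe100f0c0004) (.leaf 0xc100b0d0004))))))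

def argWS_96 : Store := (.node 1154 (.node 1148 (.node 1145 (.node 1144 (.leaf 0xc100d0003) (.leaf 0x203060607090006)) (.node 1146 (.leaf 0x0) (.node 1147 (.leaf 0x100c0002) (.leaf 0xe110f0c0004)))) (.node 1151 (.node 1149 (.leaf 0x47b00047a000479000476000475000474) (.node 1150 (.leaf 0xb0a0f0003) (.leaf 0x0))) (.node 1152 (.leaf 0x0) (.node 1153 (.leaf 0x0) (.leaf 0x0))))) (.node 1160 (.node 1157 (.node 1155 (.leaf 0x3000705080005) (.node 1156 (.leaf 0x0) (.leaf 0x0))) (.node 1158 (.leaf 0x0) (.node 1159 (.leaf 0x0) (.leaf 0x0)))) (.node 1163 (.node 1161 (.leaf 0x0) (.node 1162 (.leaf 0x0) (.leaf 0x0))) (.node 1164 (.leaf 0x0) (.node 1165 (.leaf 0x0) (.leaf 0x0))))))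

def argWS_97 : Store := (.node 1143 argWS_95 argWS_96)

def argWS_98 : Store := (.node 1177 (.node 1171 (.node 1168 (.node 1167 (.leaf 0x0) (.leaf 0x0)) (.node 1169 (.leaf 0x0) (.node 1170 (.leaf 0x0) (.leaf 0x0)))) (.node 1174 (.node 1172 (.leaf 0x0) (.node 1173 (.leaf 0x0) (.leaf 0x0))) (.node 1175 (.leaf 0x0) (.node 1176 (.leaf 0x0) (.leaf 0x0))))) (.node 1183 (.node 1180 (.node 1178 (.leaf 0x0) (.node 1179 (.leaf 0x0) (.leaf 0x0))) (.node 1181 (.leaf 0x0) (.node 1182 (.leaf 0x0) (.leaf 0x0)))) (.node 1186 (.node 1184 (.leaf 0x0) (.node 1185 (.leaf 0x0) (.leaf 0x0))) (.node 1187 (.leaf 0x0) (.node 1188 (.leaf 0xd100f0f0c0005) (.leaf 0xa0f0c0003))))))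

def argWS_99 : Store := (.node 1201 (.node 1195 (.node 1192 (.node 1190 (.leaf 0x4a4) (.node 1191 (.leaf 0xd100f0c0004) (.leaf 0x0))) (.node 1193 (.leaf 0x0) (.node 1194 (.leaf 0x0) (.leaf 0x0)))) (.node 1198 (.node 1196 (.leaf 0x0) (.node 1197 (.leaf 0x0) (.leaf 0x0))) (.node 1199 (.leaf 0x0) (.node 1200 (.leaf 0x0) (.leaf 0xe100d0f0c0005))))) (.node 1207 (.node 1204 (.node 1202 (.leaf 0x100b0f0003) (.node 1203 (.leaf 0x110001) (.leaf 0x0))) (.node 1205 (.leaf 0x2040109080607090008) (.node 1206 (.leaf 0x400070705080006) (.leaf 0x0)))) (.node 1210 (.node 1208 (.leaf 0x110b0f0c0004) (.node 1209 (.leaf 0x0) (.leaf 0xf100b0e0004))) (.node 1211 (.leaf 0x100b0002) (.node 1212 (.leaf 0x100b0e0003) (.leaf 0x4bb0004ba0004b90004b80004b20004b1))))))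

def argWS_100 : Store := (.node 1189 argWS_98 argWS_99)

def argWS_101 : Store := (.node 1166 argWS_97 argWS_100)

def argWS_102 : Store := (.node 1224 (.node 1218 (.node 1215 (.node 1214 (.leaf 0x110c0002) (.leaf 0x0)) (.node 1216 (.leaf 0x0) (.node 1217 (.leaf 0x0) (.leaf 0x0)))) (.node 1221 (.node 1219 (.leaf 0x0) (.node 1220 (.leaf 0x0) (.leaf 0x0))) (.node 1222 (.leaf 0x0) (.node 1223 (.leaf 0x0) (.leaf 0x0))))) (.node 1230 (.node 1227 (.node 1225 (.leaf 0x0) (.node 1226 (.leaf 0x0) (.leaf 0x0))) (.node 1228 (.leaf 0x0) (.node 1229 (.leaf 0x0) (.leaf 0x0)))) (.node 1233 (.node 1231 (.leaf 0xf0c0002) (.node 1232 (.leaf 0xe100d0d0e0005) (.leaf 0x110d0d0e0004))) (.node 1234 (.leaf 0x110b0e0003) (.node 1235 (.leaf 0x100b0d0d0e0005) (.leaf 0x110001))))))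

def argWS_103 : Store := (.node 1248 (.node 1242 (.node 1239 (.node 1237 (.leaf 0x4d30004d20004d10004d00004cf0004ce) (.node 1238 (.leaf 0x100b0d0003) (.leaf 0xf100b0f0004))) (.node 1240 (.leaf 0x100d0e0003) (.node 1241 (.leaf 0xe100d0003) (.leaf 0xc100d0f0c0005)))) (.node 1245 (.node 1243 (.leaf 0x0) (.node 1244 (.leaf 0x701070705080006) (.leaf 0x809080003))) (.node 1246 (.leaf 0x0) (.node 1247 (.leaf 0xf100f0003) (.leaf 0x0))))) (.node 1254 (.node 1251 (.node 1249 (.leaf 0xd100f0f0c0005) (.node 1250 (.leaf 0x0) (.leaf 0x400060607090006))) (.node 1252 (.leaf 0x8050002) (.node 1253 (.leaf 0x0) (.leaf 0xf100b0d0f0c0006)))) (.node 1257 (.node 1255 (.leaf 0x0) (.node 1256 (.leaf 0x4e60004e00004df0004d90004d80004d7) (.leaf 0x110b0002))) (.node 1258 (.leaf 0x0) (.node 1259 (.leaf 0x0) (.leaf 0x0))))))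

def argWS_104 : Store := (.node 1236 argWS_102 argWS_103)

def argWS_105 : Store := (.node 1271 (.node 1265 (.node 1262 (.node 1261 (.leaf 0x0) (.leaf 0x0)) (.node 1263 (.leaf 0x0) (.node 1264 (.leaf 0x0) (.leaf 0x0)))) (.node 1268 (.node 1266 (.leaf 0x0) (.node 1267 (.leaf 0x0) (.leaf 0x0))) (.node 1269 (.leaf 0x110c0002) (.node 1270 (.leaf 0xc100b0c0f0c0006) (.leaf 0x4f5))))) (.node 1277 (.node 1274 (.node 1272 (.leaf 0xc100b0d0e0005) (.node 1273 (.leaf 0x0) (.leaf 0x0))) (.node 1275 (.leaf 0x0) (.node 1276 (.leaf 0x0) (.leaf 0x100f0d0e0004)))) (.node 1280 (.node 1278 (.leaf 0x110d0002) (.node 1279 (.leaf 0x4fd) (.leaf 0xf100002))) (.node 1281 (.leaf 0x0) (.node 1282 (.leaf 0x0) (.leaf 0x0))))))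

def argWS_106 : Store := (.node 1295 (.node 1289 (.node 1286 (.node 1284 (.leaf 0x0) (.node 1285 (.leaf 0x0) (.leaf 0x0))) (.node 1287 (.leaf 0x0) (.node 1288 (.leaf 0x0) (.leaf 0x0)))) (.node 1292 (.node 1290 (.leaf 0x0) (.node 1291 (.leaf 0x0) (.leaf 0x0))) (.node 1293 (.leaf 0x0) (.node 1294 (.leaf 0x110b0d0e0004) (.leaf 0xc100b0003))))) (.node 1301 (.node 1298 (.node 1296 (.leaf 0x50e) (.node 1297 (.leaf 0xb0a0e0003) (.leaf 0x0))) (.node 1299 (.leaf 0xf100f0003) (.node 1300 (.leaf 0xd100f0f0c0005) (.leaf 0x0)))) (.node 1304 (.node 1302 (.leaf 0x400060607090006) (.node 1303 (.leaf 0x408050003) (.leaf 0x0))) (.node 1305 (.leaf 0xf100d0f0c0005) (.node 1306 (.leaf 0x0) (.leaf 0x110b0002))))))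

def argWS_107 : Store := (.node 1283 argWS_105 argWS_106)

def argWS_108 : Store := (.node 1260 argWS_104 argWS_107)

def argWS_109 : Store := (.node 1213 argWS_101 argWS_108)

def argWS_110 : Store := (.node 1318 (.node 1312 (.node 1309 (.node 1308 (.leaf 0xf100d0003) (.leaf 0x110e0002)) (.node 1310 (.leaf 0x100b0d0003) (.node 1311 (.leaf 0x51d00051c00051b00051a000519000513) (.leaf 0xc100c0003)))) (.node 1315 (.node 1313 (.leaf 0x0) (.node 1314 (.leaf 0xf100b0c0004) (.leaf 0x0))) (.node 1316 (.leaf 0x0) (.node 1317 (.leaf 0x5070002) (.leaf 0x0))))) (.node 1324 (.node 1321 (.node 1319 (.leaf 0x0) (.node 1320 (.leaf 0x0) (.leaf 0x0))) (.node 1322 (.leaf 0x0) (.node 1323 (.leaf 0x0) (.leaf 0x0)))) (.node 1327 (.node 1325 (.leaf 0x0) (.node 1326 (.leaf 0x0) (.leaf 0x0))) (.node 1328 (.leaf 0x0) (.node 1329 (.leaf 0x110b0d0e0004) (.leaf 0xc100f0d0e0005))))))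

def argWS_111 : Store := (.node 1341 (.node 1335 (.node 1332 (.node 1331 (.leaf 0xc100b0f0f0c0006) (.leaf 0xc0001)) (.node 1333 (.leaf 0xa0f0f0c0004) (.node 1334 (.leaf 0x103060607090006) (.leaf 0x0)))) (.node 1338 (.node 1336 (.leaf 0x110f0d0e0004) (.node 1337 (.leaf 0xd110e0003) (.leaf 0x538000537000536000533000532000531))) (.node 1339 (.leaf 0xf100b0e0004) (.node 1340 (.leaf 0x0) (.leaf 0x0))))) (.node 1347 (.node 1344 (.node 1342 (.leaf 0x3020507060005) (.node 1343 (.leaf 0x0) (.leaf 0x110b0f0f0c0005))) (.node 1345 (.leaf 0x80001) (.node 1346 (.leaf 0x0) (.leaf 0x0)))) (.node 1350 (.node 1348 (.leaf 0x0) (.node 1349 (.leaf 0x0) (.leaf 0x4050705080005))) (.node 1351 (.leaf 0x0) (.node 1352 (.leaf 0x0) (.leaf 0x0))))))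

def argWS_112 : Store := (.node 1330 argWS_110 argWS_111)

def argWS_113 : Store := (.node 1364 (.node 1358 (.node 1355 (.node 1354 (.leaf 0xd110f0d0e0005) (.leaf 0xd110f0003)) (.node 1356 (.leaf 0x110b0e0003) (.node 1357 (.leaf 0xc100b0c0004) (.leaf 0x0)))) (.node 1361 (.node 1359 (.leaf 0x4050705080005) (.node 1360 (.leaf 0x20407060607090007) (.leaf 0x0))) (.node 1362 (.leaf 0xe100c0003) (.node 1363 (.leaf 0x0) (.leaf 0xb0f0d0e0004))))) (.node 1370 (.node 1367 (.node 1365 (.leaf 0xe100c0003) (.node 1366 (.leaf 0x55400055300055200054c00054b00054a) (.leaf 0xc100002))) (.node 1368 (.leaf 0x0) (.node 1369 (.leaf 0x0) (.leaf 0x3040107050005)))) (.node 1373 (.node 1371 (.leaf 0x1020709080607090008) (.node 1372 (.leaf 0x0) (.leaf 0x203010707090006))) (.node 1374 (.leaf 0x0) (.node 1375 (.leaf 0x6070705080006) (.leaf 0x0))))))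

def argWS_114 : Store := (.node 1388 (.node 1382 (.node 1379 (.node 1377 (.leaf 0x1000607060005) (.node 1378 (.leaf 0x0) (.leaf 0x0))) (.node 1380 (.leaf 0x40008060607090007) (.node 1381 (.leaf 0x30201080905080007) (.leaf 0x0)))) (.node 1385 (.node 1383 (.leaf 0xb0a0c0f0c0005) (.node 1384 (.leaf 0x0) (.leaf 0x0))) (.node 1386 (.leaf 0x0) (.node 1387 (.leaf 0x0) (.leaf 0x701020905080006))))) (.node 1394 (.node 1391 (.node 1389 (.leaf 0x0) (.node 1390 (.leaf 0x204050707090006) (.leaf 0x0))) (.node 1392 (.leaf 0x0) (.node 1393 (.leaf 0x30001) (.leaf 0x10001)))) (.node 1397 (.node 1395 (.leaf 0x0) (.node 1396 (.leaf 0xc100d0003) (.leaf 0x0))) (.node 1398 (.leaf 0x0) (.node 1399 (.leaf 0x0) (.leaf 0x0))))))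

def argWS_115 : Store := (.node 1376 argWS_113 argWS_114)

def argWS_116 : Store := (.node 1353 argWS_112 argWS_115)

def argWS_117 : Store := (.node 1411 (.node 1405 (.node 1402 (.node 1401 (.leaf 0x10001) (.leaf 0x1070002)) (.node 1403 (.leaf 0x0) (.node 1404 (.leaf 0x0) (.leaf 0x100f0c0003)))) (.node 1408 (.node 1406 (.leaf 0x8060002) (.node 1407 (.leaf 0x0) (.leaf 0x0))) (.node 1409 (.leaf 0xf100f0003) (.node 1410 (.leaf 0x0) (.leaf 0x0))))) (.node 1417 (.node 1414 (.node 1412 (.leaf 0x0) (.node 1413 (.leaf 0x0) (.leaf 0x0))) (.node 1415 (.leaf 0x301050003) (.node 1416 (.leaf 0x0) (.leaf 0x0)))) (.node 1420 (.node 1418 (.leaf 0x0) (.node 1419 (.leaf 0x0) (.leaf 0x403010607090006))) (.node 1421 (.leaf 0x201060003) (.node 1422 (.leaf 0x0) (.leaf 0x0))))))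

def argWS_118 : Store := (.node 1435 (.node 1429 (.node 1426 (.node 1424 (.leaf 0x20409080004) (.node 1425 (.leaf 0x0) (.leaf 0x0))) (.node 1427 (.leaf 0x0) (.node 1428 (.leaf 0xf0c0002) (.leaf 0xc100f0003)))) (.node 1432 (.node 1430 (.leaf 0x594) (.node 1431 (.leaf 0x100b0d0f0c0005) (.leaf 0x0))) (.node 1433 (.leaf 0x0) (.node 1434 (.leaf 0x0) (.leaf 0x0))))) (.node 1441 (.node 1438 (.node 1436 (.leaf 0xd110e0003) (.node 1437 (.leaf 0xd100f0d0e0005) (.leaf 0x59c))) (.node 1439 (.leaf 0xc100c0003) (.node 1440 (.leaf 0x0) (.leaf 0x0)))) (.node 1444 (.node 1442 (.leaf 0x0) (.node 1443 (.leaf 0x0) (.leaf 0x0))) (.node 1445 (.leaf 0x0) (.node 1446 (.leaf 0x0) (.leaf 0x0))))))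

def argWS_119 : Store := (.node 1423 argWS_117 argWS_118)

def argWS_120 : Store := (.node 1458 (.node 1452 (.node 1449 (.node 1448 (.leaf 0x0) (.leaf 0x0)) (.node 1450 (.leaf 0x0) (.node 1451 (.leaf 0x0) (.leaf 0x0)))) (.node 1455 (.node 1453 (.leaf 0x0) (.node 1454 (.leaf 0x0) (.leaf 0x0))) (.node 1456 (.leaf 0x0) (.node 1457 (.leaf 0x0) (.leaf 0x0))))) (.node 1464 (.node 1461 (.node 1459 (.leaf 0x0) (.node 1460 (.leaf 0x0) (.leaf 0x0))) (.node 1462 (.leaf 0x0) (.node 1463 (.leaf 0x0) (.leaf 0x0)))) (.node 1467 (.node 1465 (.leaf 0x0) (.node 1466 (.leaf 0x0) (.leaf 0x0))) (.node 1468 (.leaf 0x0) (.node 1469 (.leaf 0x0) (.leaf 0x0))))))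

def argWS_121 : Store := (.node 1482 (.node 1476 (.node 1473 (.node 1471 (.leaf 0x0) (.node 1472 (.leaf 0x0) (.leaf 0xc100b0f0004))) (.node 1474 (.leaf 0xd100002) (.node 1475 (.leaf 0x110d0002) (.leaf 0x0)))) (.node 1479 (.node 1477 (.leaf 0x20105070905080007) (.node 1478 (.leaf 0x1040809080005) (.leaf 0x0))) (.node 1480 (.leaf 0x110f0002) (.node 1481 (.leaf 0x0) (.leaf 0x0))))) (.node 1488 (.node 1485 (.node 1483 (.leaf 0x204050707090006) (.node 1484 (.leaf 0x3040607060607090008) (.leaf 0x0))) (.node 1486 (.leaf 0xf100f0c0004) (.node 1487 (.leaf 0x0) (.leaf 0x110f0002)))) (.node 1491 (.node 1489 (.leaf 0x7010208060607090008) (.node 1490 (.leaf 0x0) (.leaf 0xe110f0d0e0005))) (.node 1492 (.leaf 0x5d20005d10005ce0005c80005c20005c1) (.node 1493 (.leaf 0x0) (.leaf 0x403070905080006))))))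

def argWS_122 : Store := (.node 1470 argWS_120 argWS_121)

def argWS_123 : Store := (.node 1447 argWS_119 argWS_122)

def argWS_124 : Store := (.node 1400 argWS_116 argWS_123)

def argWS_125 : Store := (.node 1307 argWS_109 argWS_124)

def argWS_126 : Store := (.node 1120 argWS_94 argWS_125)

def argWS_127 : Store := (.node 747 argWS_63 argWS_126)

def argWS_128 : Store := (.node 1505 (.node 1499 (.node 1496 (.node 1495 (.leaf 0x7010607060607090008) (.leaf 0x0)) (.node 1497 (.leaf 0xb0f0f0c0004) (.node 1498 (.leaf 0x0) (.leaf 0x0)))) (.node 1502 (.node 1500 (.leaf 0x0) (.node 1501 (.leaf 0x201050709080006) (.leaf 0x0))) (.node 1503 (.leaf 0x7020105070908060709000a) (.node 1504 (.leaf 0x0) (.leaf 0x0))))) (.node 1511 (.node 1508 (.node 1506 (.leaf 0x7020105070908060709000a) (.node 1507 (.leaf 0x0) (.leaf 0x0))) (.node 1509 (.leaf 0x10408050004) (.node 1510 (.leaf 0x70001) (.leaf 0x0)))) (.node 1514 (.node 1512 (.leaf 0x100b0c0003) (.node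 1513 (.leaf 0x0) (.leaf 0x0))) (.node 1515 (.leaf 0x0) (.node 1516 (.leaf 0x0) (.leaf 0x0))))))

def argWS_129 : Store := (.node 1528 (.node 1522 (.node 1519 (.node 1518 (.leaf 0x10408050004) (.leaf 0x1070002)) (.node 1520 (.leaf 0x0) (.node 1521 (.leaf 0xe110f0c0004) (.leaf 0x0)))) (.node 1525 (.node 1523 (.leaf 0x0) (.node 1524 (.leaf 0x0) (.leaf 0x0))) (.node 1526 (.leaf 0x0) (.node 1527 (.leaf 0x7020105070908060709000a) (.leaf 0x8050002))))) (.node 1534 (.node 1531 (.node 1529 (.leaf 0x0) (.node 1530 (.leaf 0xb0001) (.leaf 0x0))) (.node 1532 (.leaf 0x0) (.node 1533 (.leaf 0x0) (.leaf 0x0)))) (.node 1537 (.node 1535 (.leaf 0x0) (.node 1536 (.leaf 0x7020105070908060709000a) (.leaf 0x108050003))) (.node 1538 (.leaf 0x0) (.node 1539 (.leaf 0xb0a0002) (.leaf 0x0))))))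

def argWS_130 : Store := (.node 1517 argWS_128 argWS_129)

def argWS_131 : Store := (.node 1551 (.node 1545 (.node 1542 (.node 1541 (.leaf 0x0) (.leaf 0x0)) (.node 1543 (.leaf 0x0) (.node 1544 (.leaf 0x301060705080006) (.leaf 0x0)))) (.node 1548 (.node 1546 (.leaf 0x0) (.node 1547 (.leaf 0x301060705080006) (.leaf 0x4010809080607090008))) (.node 1549 (.leaf 0x0) (.node 1550 (.leaf 0x0) (.leaf 0x0))))) (.node 1557 (.node 1554 (.node 1552 (.leaf 0x0) (.node 1553 (.leaf 0xe110f0c0004) (.leaf 0x0))) (.node 1555 (.leaf 0x10001) (.node 1556 (.leaf 0x10001) (.leaf 0x0)))) (.node 1560 (.node 1558 (.leaf 0x0) (.node 1559 (.leaf 0x0) (.leaf 0x0))) (.node 1561 (.leaf 0x2040109080607090008) (.node 1562 (.leaf 0x20107060705080007) (.leaf 0x0))))))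

def argWS_132 : Store := (.node 1575 (.node 1569 (.node 1566 (.node 1564 (.leaf 0x0) (.node 1565 (.leaf 0x0) (.leaf 0xe100f0003))) (.node 1567 (.leaf 0x301060705080006) (.node 1568 (.leaf 0x0) (.leaf 0x80001)))) (.node 1572 (.node 1570 (.leaf 0x0) (.node 1571 (.leaf 0x0) (.leaf 0xe100c0f0c0005))) (.node 1573 (.leaf 0x70001) (.node 1574 (.leaf 0x0) (.leaf 0x0))))) (.node 1581 (.node 1578 (.node 1576 (.leaf 0x0) (.node 1577 (.leaf 0x301060705080006) (.leaf 0x10005070905080007))) (.node 1579 (.leaf 0x0) (.node 1580 (.leaf 0xc100b0f0c0005) (.leaf 0x0)))) (.node 1584 (.node 1582 (.leaf 0x0) (.node 1583 (.leaf 0x0) (.leaf 0x0))) (.node 1585 (.leaf 0x1080002) (.node 1586 (.leaf 0x0) (.leaf 0x0))))))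

def argWS_133 : Store := (.node 1563 argWS_131 argWS_132)

def argWS_134 : Store := (.node 1540 argWS_130 argWS_133)

def argWS_135 : Store := (.node 1598 (.node 1592 (.node 1589 (.node 1588 (.leaf 0x110b0f0d0e0005) (.leaf 0x0)) (.node 1590 (.leaf 0xf100d0d0e0005) (.node 1591 (.leaf 0x0) (.leaf 0x0)))) (.node 1595 (.node 1593 (.leaf 0x1070002) (.node 1594 (.leaf 0x0) (.leaf 0x0))) (.node 1596 (.leaf 0xa0f0002) (.node 1597 (.leaf 0x0) (.leaf 0x0))))) (.node 1604 (.node 1601 (.node 1599 (.leaf 0x0) (.node 1600 (.leaf 0x8060002) (.leaf 0x0))) (.node 1602 (.leaf 0x0) (.node 1603 (.leaf 0xb0a0c0003) (.leaf 0x0)))) (.node 1607 (.node 1605 (.leaf 0x0) (.node 1606 (.leaf 0x0) (.leaf 0x8050002))) (.node 1608 (.leaf 0x0) (.node 1609 (.leaf 0x0) (.leaf 0xa0f0f0c0004))))))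

def argWS_136 : Store := (.node 1621 (.node 1615 (.node 1612 (.node 1611 (.leaf 0x0) (.leaf 0x108060003)) (.node 1613 (.leaf 0x0) (.node 1614 (.leaf 0x0) (.leaf 0x0)))) (.node 1618 (.node 1616 (.leaf 0x2040109080607090008) (.node 1617 (.leaf 0x40105070004) (.leaf 0x0))) (.node 1619 (.leaf 0xf0c0002) (.node 1620 (.leaf 0x0) (.leaf 0x0))))) (.node 1627 (.node 1624 (.node 1622 (.leaf 0x0) (.node 1623 (.leaf 0x0) (.leaf 0x108050003))) (.node 1625 (.leaf 0x0) (.node 1626 (.leaf 0x0) (.leaf 0x100f0f0c0004)))) (.node 1630 (.node 1628 (.leaf 0xd110002) (.node 1629 (.leaf 0x8060002) (.leaf 0x0))) (.node 1631 (.leaf 0x0) (.node 1632 (.leaf 0x0) (.leaf 0x0))))))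

def argWS_137 : Store := (.node 1610 argWS_135 argWS_136)

def argWS_138 : Store := (.node 1644 (.node 1638 (.node 1635 (.node 1634 (.leaf 0xc100b0f0c0005) (.leaf 0x1070002)) (.node 1636 (.leaf 0x0) (.node 1637 (.leaf 0x0) (.leaf 0xe100c0f0c0005)))) (.node 1641 (.node 1639 (.leaf 0x8050002) (.node 1640 (.leaf 0x0) (.leaf 0x0))) (.node 1642 (.leaf 0xd110f0c0004) (.node 1643 (.leaf 0x0) (.leaf 0x108050003))))) (.node 1650 (.node 1647 (.node 1645 (.leaf 0x0) (.node 1646 (.leaf 0x0) (.leaf 0xb0a0d0f0c0005))) (.node 1648 (.leaf 0x0) (.node 1649 (.leaf 0x8060002) (.leaf 0x30507050004)))) (.node 1653 (.node 1651 (.leaf 0x0) (.node 1652 (.leaf 0x0) (.leaf 0x0))) (.node 1654 (.leaf 0x0) (.node 1655 (.leaf 0xa0001) (.leaf 0x0))))))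

def argWS_139 : Store := (.node 1668 (.node 1662 (.node 1659 (.node 1657 (.leaf 0x0) (.node 1658 (.leaf 0x0) (.leaf 0x0))) (.node 1660 (.leaf 0x40607090004) (.node 1661 (.leaf 0x80001) (.leaf 0x0)))) (.node 1665 (.node 1663 (.leaf 0x0) (.node 1664 (.leaf 0xd100f0f0c0005) (.leaf 0x0))) (.node 1666 (.leaf 0x0) (.node 1667 (.leaf 0x0) (.leaf 0x1080002))))) (.node 1674 (.node 1671 (.node 1669 (.leaf 0x0) (.node 1670 (.leaf 0x0) (.leaf 0x100f0d0e0004))) (.node 1672 (.leaf 0x0) (.node 1673 (.leaf 0x0) (.leaf 0x0)))) (.node 1677 (.node 1675 (.leaf 0x8060002) (.node 1676 (.leaf 0x0) (.leaf 0x0))) (.node 1678 (.leaf 0x0) (.node 1679 (.leaf 0x2040109080607090008) (.leaf 0x30006070004))))))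

def argWS_140 : Store := (.node 1656 argWS_138 argWS_139)

def argWS_141 : Store := (.node 1633 argWS_137 argWS_140)

def argWS_142 : Store := (.node 1587 argWS_134 argWS_141)

def argWS_143 : Store := (.node 1691 (.node 1685 (.node 1682 (.node 1681 (.leaf 0x0) (.leaf 0xb0a0c0f0c0005)) (.node 1683 (.leaf 0x0) (.node 1684 (.leaf 0x0) (.leaf 0x0)))) (.node 1688 (.node 1686 (.leaf 0x0) (.node 1687 (.leaf 0x108060003) (.leaf 0x0))) (.node 1689 (.leaf 0x0) (.node 1690 (.leaf 0xf100d0f0c0005) (.leaf 0x0))))) (.node 1697 (.node 1694 (.node 1692 (.leaf 0x0) (.node 1693 (.leaf 0x0) (.leaf 0x0))) (.node 1695 (.leaf 0x0) (.node 1696 (.leaf 0x0) (.leaf 0x0)))) (.node 1700 (.node 1698 (.leaf 0x201050003) (.node 1699 (.leaf 0x0) (.leaf 0x0))) (.node 1701 (.leaf 0x0) (.node 1702 (.leaf 0x0) (.leaf 0x607090003))))))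

def argWS_144 : Store := (.node 1714 (.node 1708 (.node 1705 (.node 1704 (.leaf 0xd110002) (.leaf 0x8060002)) (.node 1706 (.leaf 0x0) (.node 1707 (.leaf 0x0) (.leaf 0xf100d0f0c0005)))) (.node 1711 (.node 1709 (.leaf 0x108060003) (.node 1710 (.leaf 0x0) (.leaf 0x0))) (.node 1712 (.leaf 0x7020105070908060709000a) (.node 1713 (.leaf 0x0) (.leaf 0x0))))) (.node 1720 (.node 1717 (.node 1715 (.leaf 0xd100c0f0c0005) (.node 1716 (.leaf 0x0) (.leaf 0x7020105070908060709000a))) (.node 1718 (.leaf 0x0) (.node 1719 (.leaf 0x70001) (.leaf 0x0)))) (.node 1723 (.node 1721 (.leaf 0x0) (.node 1722 (.leaf 0xf100b0d0d0e0006) (.leaf 0x0))) (.node 1724 (.leaf 0x0) (.node 1725 (.leaf 0x0) (.leaf 0x1070002))))))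

def argWS_145 : Store := (.node 1703 argWS_143 argWS_144)

def argWS_146 : Store := (.node 1737 (.node 1731 (.node 1728 (.node 1727 (.leaf 0x0) (.leaf 0x0)) (.node 1729 (.leaf 0x110d0f0c0004) (.node 1730 (.leaf 0x0) (.leaf 0x0)))) (.node 1734 (.node 1732 (.leaf 0x0) (.node 1733 (.leaf 0x203060003) (.leaf 0x0))) (.node 1735 (.leaf 0x0) (.node 1736 (.leaf 0x50001) (.leaf 0x0))))) (.node 1743 (.node 1740 (.node 1738 (.leaf 0x40001) (.node 1739 (.leaf 0x0) (.leaf 0x4050002))) (.node 1741 (.leaf 0x0) (.node 1742 (.leaf 0x0) (.leaf 0x70001)))) (.node 1746 (.node 1744 (.leaf 0x0) (.node 1745 (.leaf 0x0) (.leaf 0xd100f0f0c0005))) (.node 1747 (.leaf 0x1080002) (.node 1748 (.leaf 0x0) (.leaf 0x0))))))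

def argWS_147 : Store := (.node 1761 (.node 1755 (.node 1752 (.node 1750 (.leaf 0xe100f0c0004) (.node 1751 (.leaf 0x1070002) (.leaf 0x0))) (.node 1753 (.leaf 0x0) (.node 1754 (.leaf 0x100f0d0e0004) (.leaf 0x8060002)))) (.node 1758 (.node 1756 (.leaf 0x0) (.node 1757 (.leaf 0x0) (.leaf 0x0))) (.node 1759 (.leaf 0x7020105070908060709000a) (.node 1760 (.leaf 0x20408060607090007) (.leaf 0x0))))) (.node 1767 (.node 1764 (.node 1762 (.leaf 0xd110d0003) (.node 1763 (.leaf 0x0) (.leaf 0x0))) (.node 1765 (.leaf 0x0) (.node 1766 (.leaf 0x0) (.leaf 0x108060003)))) (.node 1770 (.node 1768 (.leaf 0x0) (.node 1769 (.leaf 0x0) (.leaf 0x0))) (.node 1771 (.leaf 0x7020105070908060709000a) (.node 1772 (.leaf 0x2040108060607090008) (.leaf 0x0))))))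

def argWS_148 : Store := (.node 1749 argWS_146 argWS_147)

def argWS_149 : Store := (.node 1726 argWS_145 argWS_148)

def argWS_150 : Store := (.node 1784 (.node 1778 (.node 1775 (.node 1774 (.leaf 0x110c0002) (.leaf 0x0)) (.node 1776 (.leaf 0x0) (.node 1777 (.leaf 0x0) (.leaf 0x0)))) (.node 1781 (.node 1779 (.leaf 0x108050003) (.node 1780 (.leaf 0x0) (.leaf 0x0))) (.node 1782 (.leaf 0x0) (.node 1783 (.leaf 0x10408050004) (.leaf 0x30201090004))))) (.node 1790 (.node 1787 (.node 1785 (.leaf 0x0) (.node 1786 (.leaf 0xc100d0f0c0005) (.leaf 0x0))) (.node 1788 (.leaf 0x0) (.node 1789 (.leaf 0x0) (.leaf 0x0)))) (.node 1793 (.node 1791 (.leaf 0x70001) (.node 1792 (.leaf 0x0) (.leaf 0x0))) (.node 1794 (.leaf 0xf100c0f0c0005) (.node 1795 (.leaf 0x1070002) (.leaf 0x0))))))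

def argWS_151 : Store := (.node 1808 (.node 1802 (.node 1799 (.node 1797 (.leaf 0x0) (.node 1798 (.leaf 0xd110e0003) (.leaf 0xc100e0003))) (.node 1800 (.leaf 0x1070002) (.node 1801 (.leaf 0x30208060004) (.leaf 0x0)))) (.node 1805 (.node 1803 (.leaf 0x0) (.node 1804 (.leaf 0x0) (.leaf 0xd100f0c0004))) (.node 1806 (.leaf 0x0) (.node 1807 (.leaf 0x0) (.leaf 0x0))))) (.node 1814 (.node 1811 (.node 1809 (.leaf 0x0) (.node 1810 (.leaf 0x30401050004) (.leaf 0xf100d0e0004))) (.node 1812 (.leaf 0x0) (.node 1813 (.leaf 0x110e0002) (.leaf 0x0)))) (.node 1817 (.node 1815 (.leaf 0x108050003) (.node 1816 (.leaf 0x0) (.leaf 0x0))) (.node 1818 (.leaf 0xf100c0f0c0005) (.node 1819 (.leaf 0x0) (.leaf 0x0))))))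

def argWS_152 : Store := (.node 1796 argWS_150 argWS_151)

def argWS_153 : Store := (.node 1831 (.node 1825 (.node 1822 (.node 1821 (.leaf 0x0) (.leaf 0x0)) (.node 1823 (.leaf 0x7020108050705080008) (.node 1824 (.leaf 0x8050002) (.leaf 0x0)))) (.node 1828 (.node 1826 (.leaf 0x0) (.node 1827 (.leaf 0xd110e0003) (.leaf 0x0))) (.node 1829 (.leaf 0x0) (.node 1830 (.leaf 0x0) (.leaf 0x0))))) (.node 1837 (.node 1834 (.node 1832 (.leaf 0x40905080004) (.node 1833 (.leaf 0x108060003) (.leaf 0x0))) (.node 1835 (.leaf 0x0) (.node 1836 (.leaf 0xf100d0f0c0005) (.leaf 0x1080002)))) (.node 1840 (.node 1838 (.leaf 0x0) (.node 1839 (.leaf 0x0) (.leaf 0xf100d0f0c0005))) (.node 1841 (.leaf 0x0) (.node 1842 (.leaf 0x80001) (.leaf 0x0))))))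

def argWS_154 : Store := (.node 1855 (.node 1849 (.node 1846 (.node 1844 (.leaf 0x0) (.node 1845 (.leaf 0xd110002) (.leaf 0x10001))) (.node 1847 (.leaf 0x10001) (.node 1848 (.leaf 0x0) (.leaf 0x0)))) (.node 1852 (.node 1850 (.leaf 0x0) (.node 1851 (.leaf 0xd0e0002) (.leaf 0x1080002))) (.node 1853 (.leaf 0x0) (.node 1854 (.leaf 0x0) (.leaf 0x0))))) (.node 1861 (.node 1858 (.node 1856 (.leaf 0x10408050004) (.node 1857 (.leaf 0x20301080905080007) (.leaf 0x0))) (.node 1859 (.leaf 0x110d0f0c0004) (.node 1860 (.leaf 0x0) (.leaf 0x0)))) (.node 1864 (.node 1862 (.leaf 0x0) (.node 1863 (.leaf 0x0) (.leaf 0x304080607090006))) (.node 1865 (.leaf 0x108060003) (.node 1866 (.leaf 0x0) (.leaf 0x0))))))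

def argWS_155 : Store := (.node 1843 argWS_153 argWS_154)

def argWS_156 : Store := (.node 1820 argWS_152 argWS_155)

def argWS_157 : Store := (.node 1773 argWS_149 argWS_156)

def argWS_158 : Store := (.node 1680 argWS_142 argWS_157)

def argWS_159 : Store := (.node 1878 (.node 1872 (.node 1869 (.node 1868 (.leaf 0x0) (.leaf 0x110d0e0003)) (.node 1870 (.leaf 0x0) (.node 1871 (.leaf 0x8060002) (.leaf 0x0)))) (.node 1875 (.node 1873 (.leaf 0x0) (.node 1874 (.leaf 0x0) (.leaf 0x4050002))) (.node 1876 (.leaf 0x4030607060607090008) (.node 1877 (.leaf 0x0) (.leaf 0xf100b0c0f0c0006))))) (.node 1884 (.node 1881 (.node 1879 (.leaf 0x0) (.node 1880 (.leaf 0x0) (.leaf 0x0))) (.node 1882 (.leaf 0x0) (.node 1883 (.leaf 0x701070705080006) (.leaf 0x108060003)))) (.node 1887 (.node 1885 (.leaf 0x0) (.node 1886 (.leaf 0x0) (.leaf 0x0))) (.node 1888 (.leaf 0x50001) (.node 1889 (.leaf 0x403010607060607090009) (.leaf 0x0))))))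

def argWS_160 : Store := (.node 1901 (.node 1895 (.node 1892 (.node 1891 (.leaf 0xf100b0c0f0c0006) (.leaf 0x0)) (.node 1893 (.leaf 0x0) (.node 1894 (.leaf 0x0) (.leaf 0x0)))) (.node 1898 (.node 1896 (.leaf 0x200050003) (.node 1897 (.leaf 0x70001) (.leaf 0x0))) (.node 1899 (.leaf 0x0) (.node 1900 (.leaf 0x110d0e0003) (.leaf 0xb0001))))) (.node 1907 (.node 1904 (.node 1902 (.leaf 0x0) (.node 1903 (.leaf 0x0) (.leaf 0x1070002))) (.node 1905 (.leaf 0x0) (.node 1906 (.leaf 0x0) (.leaf 0xd0e0002)))) (.node 1910 (.node 1908 (.leaf 0x1080002) (.node 1909 (.leaf 0x0) (.leaf 0x0))) (.node 1911 (.leaf 0xe100d0d0e0005) (.node 1912 (.leaf 0xf100d0f0c0005) (.leaf 0x108060003))))))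

def argWS_161 : Store := (.node 1890 argWS_159 argWS_160)

def argWS_162 : Store := (.node 1924 (.node 1918 (.node 1915 (.node 1914 (.leaf 0x0) (.leaf 0x0)) (.node 1916 (.leaf 0x80001) (.node 1917 (.leaf 0x0) (.leaf 0x0)))) (.node 1921 (.node 1919 (.leaf 0xf100b0d0f0c0006) (.node 1920 (.leaf 0x70001) (.leaf 0x0))) (.node 1922 (.leaf 0x0) (.node 1923 (.leaf 0x301060705080006) (.leaf 0x0))))) (.node 1930 (.node 1927 (.node 1925 (.leaf 0x0) (.node 1926 (.leaf 0x301060705080006) (.leaf 0x3040709080005))) (.node 1928 (.leaf 0x0) (.node 1929 (.leaf 0x0) (.leaf 0x0)))) (.node 1933 (.node 1931 (.leaf 0xd110c0f0c0005) (.node 1932 (.leaf 0x1070002) (.leaf 0x0))) (.node 1934 (.leaf 0x0) (.node 1935 (.leaf 0xd100f0d0e0005) (.leaf 0x301060705080006))))))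

def argWS_163 : Store := (.node 1948 (.node 1942 (.node 1939 (.node 1937 (.leaf 0x0) (.node 1938 (.leaf 0x0) (.leaf 0x0))) (.node 1940 (.leaf 0x0) (.node 1941 (.leaf 0x0) (.leaf 0x20401060004)))) (.node 1945 (.node 1943 (.leaf 0x0) (.node 1944 (.leaf 0x0) (.leaf 0x0))) (.node 1946 (.leaf 0x0) (.node 1947 (.leaf 0x203050003) (.leaf 0x0))))) (.node 1954 (.node 1951 (.node 1949 (.leaf 0x0) (.node 1950 (.leaf 0x0) (.leaf 0x0))) (.node 1952 (.leaf 0x3020507050005) (.node 1953 (.leaf 0x0) (.leaf 0x0)))) (.node 1957 (.node 1955 (.leaf 0x0) (.node 1956 (.leaf 0x0) (.leaf 0x2010607090005))) (.node 1958 (.leaf 0x7010205080005) (.node 1959 (.leaf 0x0) (.leaf 0x0))))))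

def argWS_164 : Store := (.node 1936 argWS_162 argWS_163)

def argWS_165 : Store := (.node 1913 argWS_161 argWS_164)

def argWS_166 : Store := (.node 1971 (.node 1965 (.node 1962 (.node 1961 (.leaf 0x0) (.leaf 0x0)) (.node 1963 (.leaf 0x0) (.node 1964 (.leaf 0x50705080005) (.leaf 0x40308050705080007)))) (.node 1968 (.node 1966 (.leaf 0x0) (.node 1967 (.leaf 0x0) (.leaf 0x0))) (.node 1969 (.leaf 0x0) (.node 1970 (.leaf 0x0) (.leaf 0x103060607090006))))) (.node 1977 (.node 1974 (.node 1972 (.leaf 0x100f0c0003) (.node 1973 (.leaf 0x80001) (.leaf 0x0))) (.node 1975 (.leaf 0x0) (.node 1976 (.leaf 0xf100d0d0e0005) (.leaf 0x8060002)))) (.node 1980 (.node 1978 (.leaf 0x0) (.node 1979 (.leaf 0x0) (.leaf 0x0))) (.node 1981 (.leaf 0x0) (.node 1982 (.leaf 0x0) (.leaf 0x0))))))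

def argWS_167 : Store := (.node 1995 (.node 1989 (.node 1986 (.node 1984 (.leaf 0x2040109080607090008) (.node 1985 (.leaf 0x40005070705080007) (.leaf 0x0))) (.node 1987 (.leaf 0xf100b0f0d0e0006) (.node 1988 (.leaf 0x0) (.leaf 0x9080607090005)))) (.node 1992 (.node 1990 (.leaf 0x0) (.node 1991 (.leaf 0x0) (.leaf 0x0))) (.node 1993 (.leaf 0x701050709080607090009) (.node 1994 (.leaf 0x1030607050705080008) (.leaf 0x0))))) (.node 2001 (.node 1998 (.node 1996 (.leaf 0x0) (.node 1997 (.leaf 0x701080003) (.leaf 0x70108060004))) (.node 1999 (.leaf 0x0) (.node 2000 (.leaf 0x0) (.leaf 0x0)))) (.node 2004 (.node 2002 (.leaf 0xc0001) (.node 2003 (.leaf 0x10001) (.leaf 0x4010607090005))) (.node 2005 (.leaf 0x0) (.node 2006 (.leaf 0x10001) (.leaf 0x0))))))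

def argWS_168 : Store := (.node 1983 argWS_166 argWS_167)

def argWS_169 : Store := (.node 2018 (.node 2012 (.node 2009 (.node 2008 (.leaf 0x0) (.leaf 0x0)) (.node 2010 (.leaf 0x0) (.node 2011 (.leaf 0x301060705080006) (.leaf 0x108060607090006)))) (.node 2015 (.node 2013 (.leaf 0x0) (.node 2014 (.leaf 0x110b0d0003) (.leaf 0x0))) (.node 2016 (.leaf 0x2030905080005) (.node 2017 (.leaf 0x0) (.leaf 0x0))))) (.node 2024 (.node 2021 (.node 2019 (.leaf 0x0) (.node 2020 (.leaf 0x0) (.leaf 0x3060002))) (.node 2022 (.leaf 0x0) (.node 2023 (.leaf 0x0) (.leaf 0x0)))) (.node 2027 (.node 2025 (.leaf 0x0) (.node 2026 (.leaf 0x301060003) (.leaf 0x0))) (.node 2028 (.leaf 0x0) (.node 2029 (.leaf 0x0) (.leaf 0x0))))))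

def argWS_170 : Store := (.node 2042 (.node 2036 (.node 2033 (.node 2031 (.leaf 0x701020809080607090009) (.node 2032 (.leaf 0x10001) (.leaf 0x10001))) (.node 2034 (.leaf 0x0) (.node 2035 (.leaf 0x0) (.leaf 0x0)))) (.node 2039 (.node 2037 (.leaf 0xb0f0f0c0004) (.node 2038 (.leaf 0x0) (.leaf 0x0))) (.node 2040 (.leaf 0x0) (.node 2041 (.leaf 0x0) (.leaf 0x20407090004))))) (.node 2048 (.node 2045 (.node 2043 (.leaf 0x108050003) (.node 2044 (.leaf 0x30201090004) (.leaf 0x0))) (.node 2046 (.leaf 0x0) (.node 2047 (.leaf 0x0) (.leaf 0x0)))) (.node 2051 (.node 2049 (.leaf 0x0) (.node 2050 (.leaf 0x701080003) (.leaf 0x300060705080006))) (.node 2052 (.leaf 0x0) (.node 2053 (.leaf 0xa0d0f0c0004) (.leaf 0x0))))))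

def argWS_171 : Store := (.node 2030 argWS_169 argWS_170)

def argWS_172 : Store := (.node 2007 argWS_168 argWS_171)

def argWS_173 : Store := (.node 1960 argWS_165 argWS_172)

def argWS_174 : Store := (.node 2065 (.node 2059 (.node 2056 (.node 2055 (.leaf 0x2040705080005) (.leaf 0x0)) (.node 2057 (.leaf 0x0) (.node 2058 (.leaf 0x0) (.leaf 0x3020809080005)))) (.node 2062 (.node 2060 (.leaf 0x0) (.node 2061 (.leaf 0x301060705080006) (.leaf 0x301060705080006))) (.node 2063 (.leaf 0x0) (.node 2064 (.leaf 0xc100b0f0d0e0006) (.leaf 0x70001))))) (.node 2071 (.node 2068 (.node 2066 (.leaf 0x0) (.node 2067 (.leaf 0x0) (.leaf 0x80001))) (.node 2069 (.leaf 0x0) (.node 2070 (.leaf 0x0) (.leaf 0x0)))) (.node 2074 (.node 2072 (.leaf 0x7020105080005) (.node 2073 (.leaf 0x20308060004) (.leaf 0x0))) (.node 2075 (.leaf 0x0) (.node 2076 (.leaf 0x0) (.leaf 0xc100b0c0f0c0006))))))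

def argWS_175 : Store := (.node 2088 (.node 2082 (.node 2079 (.node 2078 (.leaf 0x20709080004) (.leaf 0x0)) (.node 2080 (.leaf 0xb0a0c0f0c0005) (.node 2081 (.leaf 0x70001) (.leaf 0x0)))) (.node 2085 (.node 2083 (.leaf 0x0) (.node 2084 (.leaf 0x70001) (.leaf 0x0))) (.node 2086 (.leaf 0x0) (.node 2087 (.leaf 0xe100f0d0e0005) (.leaf 0x0))))) (.node 2094 (.node 2091 (.node 2089 (.leaf 0x0) (.node 2090 (.leaf 0x0) (.leaf 0x0))) (.node 2092 (.leaf 0x30405080004) (.node 2093 (.leaf 0x70001) (.leaf 0x0)))) (.node 2097 (.node 2095 (.leaf 0x0) (.node 2096 (.leaf 0x0) (.leaf 0x110b0d0e0004))) (.node 2098 (.leaf 0x0) (.node 2099 (.leaf 0x0) (.leaf 0x0))))))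

def argWS_176 : Store := (.node 2077 argWS_174 argWS_175)

def argWS_177 : Store := (.node 2111 (.node 2105 (.node 2102 (.node 2101 (.leaf 0x0) (.leaf 0x103060003)) (.node 2103 (.leaf 0x40208060607090007) (.node 2104 (.leaf 0x0) (.leaf 0x1080002)))) (.node 2108 (.node 2106 (.leaf 0x40301080607090007) (.node 2107 (.leaf 0x0) (.leaf 0x0))) (.node 2109 (.leaf 0x0) (.node 2110 (.leaf 0x0) (.leaf 0x50001))))) (.node 2117 (.node 2114 (.node 2112 (.leaf 0x0) (.node 2113 (.leaf 0x0) (.leaf 0x20309080004))) (.node 2115 (.leaf 0x10207060004) (.node 2116 (.leaf 0x0) (.leaf 0x0)))) (.node 2120 (.node 2118 (.leaf 0x0) (.node 2119 (.leaf 0xd100f0003) (.leaf 0x40001))) (.node 2121 (.leaf 0x0) (.node 2122 (.leaf 0x1070002) (.leaf 0x0))))))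

def argWS_178 : Store := (.node 2135 (.node 2129 (.node 2126 (.node 2124 (.leaf 0x0) (.node 2125 (.leaf 0x0) (.leaf 0x2040109080607090008))) (.node 2127 (.leaf 0x70100060004) (.node 2128 (.leaf 0x0) (.leaf 0x0)))) (.node 2132 (.node 2130 (.leaf 0x0) (.node 2131 (.leaf 0xb0a0f0003) (.leaf 0x701070705080006))) (.node 2133 (.leaf 0x0) (.node 2134 (.leaf 0x110b0f0f0c0005) (.leaf 0x80001))))) (.node 2141 (.node 2138 (.node 2136 (.leaf 0x0) (.node 2137 (.leaf 0x0) (.leaf 0x8060002))) (.node 2139 (.leaf 0x0) (.node 2140 (.leaf 0x0) (.leaf 0x0)))) (.node 2144 (.node 2142 (.leaf 0x701070705080006) (.node 2143 (.leaf 0x30408050004) (.leaf 0x0))) (.node 2145 (.leaf 0xc100b0f0f0c0006) (.node 2146 (.leaf 0x0) (.leaf 0x0))))))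

def argWS_179 : Store := (.node 2123 argWS_177 argWS_178)

def argWS_180 : Store := (.node 2100 argWS_176 argWS_179)

def argWS_181 : Store := (.node 2158 (.node 2152 (.node 2149 (.node 2148 (.leaf 0x0) (.leaf 0x0)) (.node 2150 (.leaf 0x1070002) (.node 2151 (.leaf 0x0) (.leaf 0x0)))) (.node 2155 (.node 2153 (.leaf 0xe100f0003) (.node 2154 (.leaf 0x70001) (.leaf 0x0))) (.node 2156 (.leaf 0x0) (.node 2157 (.leaf 0xe110f0003) (.leaf 0xb0001))))) (.node 2164 (.node 2161 (.node 2159 (.leaf 0x0) (.node 2160 (.leaf 0x0) (.leaf 0xc0001))) (.node 2162 (.leaf 0x0) (.node 2163 (.leaf 0x0) (.leaf 0x110b0d0e0004)))) (.node 2167 (.node 2165 (.leaf 0x0) (.node 2166 (.leaf 0x0) (.leaf 0x3040108060705080008))) (.node 2168 (.leaf 0x0) (.node 2169 (.leaf 0x0) (.leaf 0xb0a0f0d0e0005))))))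

def argWS_182 : Store := (.node 2182 (.node 2176 (.node 2173 (.node 2171 (.leaf 0x0) (.node 2172 (.leaf 0x0) (.leaf 0x0))) (.node 2174 (.leaf 0x0) (.node 2175 (.leaf 0x30401060607090007) (.leaf 0x30408060705080007)))) (.node 2179 (.node 2177 (.leaf 0x0) (.node 2178 (.leaf 0x0) (.leaf 0xc100b0f0004))) (.node 2180 (.leaf 0x0) (.node 2181 (.leaf 0x0) (.leaf 0x0))))) (.node 2188 (.node 2185 (.node 2183 (.leaf 0x0) (.node 2184 (.leaf 0x400050705080006) (.leaf 0x10407060004))) (.node 2186 (.leaf 0x10007060607090007) (.node 2187 (.leaf 0x0) (.leaf 0x1080002)))) (.node 2191 (.node 2189 (.leaf 0x0) (.node 2190 (.leaf 0x0) (.leaf 0x0))) (.node 2192 (.leaf 0xb0a0e0003) (.node 2193 (.leaf 0x10001) (.leaf 0x2030809080005))))))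

def argWS_183 : Store := (.node 2170 argWS_181 argWS_182)

def argWS_184 : Store := (.node 2205 (.node 2199 (.node 2196 (.node 2195 (.leaf 0x0) (.leaf 0x0)) (.node 2197 (.leaf 0x0) (.node 2198 (.leaf 0x0) (.leaf 0x4060002)))) (.node 2202 (.node 2200 (.leaf 0x40307060705080007) (.node 2201 (.leaf 0x0) (.leaf 0xb0f0f0c0004))) (.node 2203 (.leaf 0x0) (.node 2204 (.leaf 0x0) (.leaf 0x0))))) (.node 2211 (.node 2208 (.node 2206 (.leaf 0x0) (.node 2207 (.leaf 0x10001) (.leaf 0x0))) (.node 2209 (.leaf 0x0) (.node 2210 (.leaf 0x30405080004) (.leaf 0x70001)))) (.node 2214 (.node 2212 (.leaf 0x0) (.node 2213 (.leaf 0x0) (.leaf 0x0))) (.node 2215 (.leaf 0x110b0d0e0004) (.node 2216 (.leaf 0x0) (.leaf 0x70001))))))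

def argWS_185 : Store := (.node 2229 (.node 2223 (.node 2220 (.node 2218 (.leaf 0x0) (.node 2219 (.leaf 0x0) (.leaf 0xf100c0003))) (.node 2221 (.leaf 0xf100d0f0c0005) (.node 2222 (.leaf 0x108060003) (.leaf 0x0)))) (.node 2226 (.node 2224 (.leaf 0x0) (.node 2225 (.leaf 0x1080002) (.leaf 0x0))) (.node 2227 (.leaf 0x0) (.node 2228 (.leaf 0x0) (.leaf 0x30405080004))))) (.node 2235 (.node 2232 (.node 2230 (.leaf 0x701020003) (.node 2231 (.leaf 0x0) (.leaf 0x0))) (.node 2233 (.leaf 0x0) (.node 2234 (.leaf 0xb0d0e0003) (.leaf 0x2040107060005)))) (.node 2238 (.node 2236 (.leaf 0x0) (.node 2237 (.leaf 0x1070002) (.leaf 0x0))) (.node 2239 (.leaf 0x0) (.node 2240 (.leaf 0x100b0f0c0004) (.leaf 0x8060002))))))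

def argWS_186 : Store := (.node 2217 argWS_184 argWS_185)

def argWS_187 : Store := (.node 2194 argWS_183 argWS_186)

def argWS_188 : Store := (.node 2147 argWS_180 argWS_187)

def argWS_189 : Store := (.node 2054 argWS_173 argWS_188)

def argWS_190 : Store := (.node 1867 argWS_158 argWS_189)

def argWS_191 : Store := (.node 2252 (.node 2246 (.node 2243 (.node 2242 (.leaf 0x0) (.leaf 0x0)) (.node 2244 (.leaf 0x0) (.node 2245 (.leaf 0xa0d0e0003) (.leaf 0x8050002)))) (.node 2249 (.node 2247 (.leaf 0x0) (.node 2248 (.leaf 0x0) (.leaf 0x0))) (.node 2250 (.leaf 0x0) (.node 2251 (.leaf 0x2040107060005) (.leaf 0x7010007060005))))) (.node 2258 (.node 2255 (.node 2253 (.leaf 0x0) (.node 2254 (.leaf 0x100f0c0003) (.leaf 0x0))) (.node 2256 (.leaf 0x0) (.node 2257 (.leaf 0x0) (.leaf 0x0)))) (.node 2261 (.node 2259 (.leaf 0x0) (.node 2260 (.leaf 0x304010905080006) (.leaf 0x10001))) (.node 2262 (.leaf 0x402070607090006) (.node 2263 (.leaf 0x0) (.leaf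 0x0))))))

def argWS_192 : Store := (.node 2275 (.node 2269 (.node 2266 (.node 2265 (.leaf 0x0) (.leaf 0xf100b0f0004)) (.node 2267 (.leaf 0x30401050705080007) (.node 2268 (.leaf 0x0) (.leaf 0x0)))) (.node 2272 (.node 2270 (.leaf 0x0) (.node 2271 (.leaf 0x0) (.leaf 0x0))) (.node 2273 (.leaf 0x40007060004) (.node 2274 (.leaf 0x203050003) (.leaf 0x0))))) (.node 2281 (.node 2278 (.node 2276 (.leaf 0x0) (.node 2277 (.leaf 0x4020107090005) (.leaf 0x0))) (.node 2279 (.leaf 0x0) (.node 2280 (.leaf 0x0) (.leaf 0x0)))) (.node 2284 (.node 2282 (.leaf 0x0) (.node 2283 (.leaf 0x304010607090006) (.leaf 0x2050707090005))) (.node 2285 (.leaf 0x10309080607090007) (.node 2286 (.leaf 0x0) (.leaf 0x0))))))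

def argWS_193 : Store := (.node 2264 argWS_191 argWS_192)

def argWS_194 : Store := (.node 2298 (.node 2292 (.node 2289 (.node 2288 (.leaf 0x0) (.leaf 0x0)) (.node 2290 (.leaf 0x0) (.node 2291 (.leaf 0x0) (.leaf 0x40009080004)))) (.node 2295 (.node 2293 (.leaf 0x402050707090006) (.node 2294 (.leaf 0x4030105070005) (.leaf 0x0))) (.node 2296 (.leaf 0x10209080004) (.node 2297 (.leaf 0x0) (.leaf 0x0))))) (.node 2304 (.node 2301 (.node 2299 (.leaf 0x0) (.node 2300 (.leaf 0x0) (.leaf 0x7010208060607090008))) (.node 2302 (.leaf 0x301060705080006) (.node 2303 (.leaf 0x0) (.leaf 0x8060705080006)))) (.node 2307 (.node 2305 (.leaf 0x0) (.node 2306 (.leaf 0x701070705080006) (.leaf 0x0))) (.node 2308 (.leaf 0x701070705080006) (.node 2309 (.leaf 0x0) (.leaf 0x0))))))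

def argWS_195 : Store := (.node 2322 (.node 2316 (.node 2313 (.node 2311 (.leaf 0x8060705080006) (.node 2312 (.leaf 0x0) (.leaf 0x1020809080607090008))) (.node 2314 (.leaf 0x0) (.node 2315 (.leaf 0x8060705080006) (.leaf 0x0)))) (.node 2319 (.node 2317 (.leaf 0x0) (.node 2318 (.leaf 0x301060705080006) (.leaf 0x0))) (.node 2320 (.leaf 0x103070003) (.node 2321 (.leaf 0x0) (.leaf 0x1020809080607090008))))) (.node 2328 (.node 2325 (.node 2323 (.leaf 0x0) (.node 2324 (.leaf 0x1020809080607090008) (.leaf 0x0))) (.node 2326 (.leaf 0x204050707090006) (.node 2327 (.leaf 0x0) (.leaf 0x204050707090006)))) (.node 2331 (.node 2329 (.leaf 0x0) (.node 2330 (.leaf 0x701070705080006) (.leaf 0x0))) (.node 2332 (.leaf 0x701000607060705080009) (.node 2333 (.leaf 0x0) (.leaf 0x301060705080006))))))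

def argWS_196 : Store := (.node 2310 argWS_194 argWS_195)

def argWS_197 : Store := (.node 2287 argWS_193 argWS_196)

def argWS_198 : Store := (.node 2345 (.node 2339 (.node 2336 (.node 2335 (.leaf 0x0) (.leaf 0x1000507060607090008)) (.node 2337 (.leaf 0x0) (.node 2338 (.leaf 0x301060705080006) (.leaf 0x0)))) (.node 2342 (.node 2340 (.leaf 0x407060705080006) (.node 2341 (.leaf 0x0) (.leaf 0x204050707090006))) (.node 2343 (.leaf 0x0) (.node 2344 (.leaf 0x0) (.leaf 0x0))))) (.node 2351 (.node 2348 (.node 2346 (.leaf 0x407060705080006) (.node 2347 (.leaf 0x0) (.leaf 0x701000607060705080009))) (.node 2349 (.leaf 0x0) (.node 2350 (.leaf 0x50705080005) (.leaf 0x0)))) (.node 2354 (.node 2352 (.leaf 0x1000507060607090008) (.node 2353 (.leaf 0x0) (.leaf 0x1070905080005))) (.node 2355 (.leaf 0x0) (.node 2356 (.leaf 0x1000507060607090008) (.leaf 0x0))))))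

def argWS_199 : Store := (.node 2369 (.node 2363 (.node 2360 (.node 2358 (.leaf 0x201090003) (.node 2359 (.leaf 0x0) (.leaf 0x103070003))) (.node 2361 (.leaf 0x0) (.node 2362 (.leaf 0x4020107090005) (.leaf 0x0)))) (.node 2366 (.node 2364 (.leaf 0x1070905080005) (.node 2365 (.leaf 0x0) (.leaf 0x103050003))) (.node 2367 (.leaf 0x0) (.node 2368 (.leaf 0x204050707090006) (.leaf 0x0))))) (.node 2375 (.node 2372 (.node 2370 (.leaf 0x402050709080607090009) (.node 2371 (.leaf 0x0) (.leaf 0x201090003))) (.node 2373 (.leaf 0x0) (.node 2374 (.leaf 0x1020809080607090008) (.leaf 0x0)))) (.node 2378 (.node 2376 (.leaf 0x0) (.node 2377 (.leaf 0x301060705080006) (.leaf 0x0))) (.node 2379 (.leaf 0x301060705080006) (.node 2380 (.leaf 0x0) (.leaf 0x7010007060005))))))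

def argWS_200 : Store := (.node 2357 argWS_198 argWS_199)

def argWS_201 : Store := (.node 2392 (.node 2386 (.node 2383 (.node 2382 (.leaf 0x0) (.leaf 0x301060705080006)) (.node 2384 (.leaf 0x0) (.node 2385 (.leaf 0x50705080005) (.leaf 0x0)))) (.node 2389 (.node 2387 (.leaf 0x407060705080006) (.node 2388 (.leaf 0x0) (.leaf 0x40308060004))) (.node 2390 (.leaf 0x0) (.node 2391 (.leaf 0x40308060004) (.leaf 0x0))))) (.node 2398 (.node 2395 (.node 2393 (.leaf 0x30405080004) (.node 2394 (.leaf 0x0) (.leaf 0x407060705080006))) (.node 2396 (.leaf 0x0) (.node 2397 (.leaf 0x2010507050705080008) (.leaf 0x0)))) (.node 2401 (.node 2399 (.leaf 0x50705080005) (.node 2400 (.leaf 0x0) (.leaf 0x20406070607090007))) (.node 2402 (.leaf 0x0) (.node 2403 (.leaf 0x50705080005) (.leaf 0x0))))))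

def argWS_202 : Store := (.node 2416 (.node 2410 (.node 2407 (.node 2405 (.leaf 0x40308060004) (.node 2406 (.leaf 0x0) (.leaf 0x7010007060005))) (.node 2408 (.leaf 0x0) (.node 2409 (.leaf 0x10205070004) (.leaf 0x0)))) (.node 2413 (.node 2411 (.leaf 0x402050709080607090009) (.node 2412 (.leaf 0x0) (.leaf 0x70107090004))) (.node 2414 (.leaf 0x0) (.node 2415 (.leaf 0x2010507050705080008) (.leaf 0x0))))) (.node 2422 (.node 2419 (.node 2417 (.leaf 0x701070705080006) (.node 2418 (.leaf 0x0) (.leaf 0x0))) (.node 2420 (.leaf 0x103070003) (.node 2421 (.leaf 0x103070003) (.leaf 0x0)))) (.node 2425 (.node 2423 (.leaf 0x8060002) (.node 2424 (.leaf 0x705080004) (.leaf 0x0))) (.node 2426 (.leaf 0x0) (.node 2427 (.leaf 0x0) (.leaf 0xb0a0e0003))))))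

def argWS_203 : Store := (.node 2404 argWS_201 argWS_202)

def argWS_204 : Store := (.node 2381 argWS_200 argWS_203)

def argWS_205 : Store := (.node 2334 argWS_197 argWS_204)

def argWS_206 : Store := (.node 2439 (.node 2433 (.node 2430 (.node 2429 (.leaf 0x30401060705080007) (.leaf 0x0)) (.node 2431 (.leaf 0x0) (.node 2432 (.leaf 0x0) (.leaf 0x0)))) (.node 2436 (.node 2434 (.leaf 0x301050709080607090009) (.node 2435 (.leaf 0x108060003) (.leaf 0x7010208060005))) (.node 2437 (.leaf 0x0) (.node 2438 (.leaf 0x0) (.leaf 0x0))))) (.node 2445 (.node 2442 (.node 2440 (.leaf 0xb0e0002) (.node 2441 (.leaf 0x2010607090005) (.leaf 0x0))) (.node 2443 (.leaf 0x0) (.node 2444 (.leaf 0x0) (.leaf 0x0)))) (.node 2448 (.node 2446 (.leaf 0x40607050004) (.node 2447 (.leaf 0x80001) (.leaf 0x204060705080006))) (.node 2449 (.leaf 0x0) (.node 2450 (.leaf 0x0) (.leaf 0x0))))))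

def argWS_207 : Store := (.node 2462 (.node 2456 (.node 2453 (.node 2452 (.leaf 0x0) (.leaf 0x701070705080006)) (.node 2454 (.leaf 0x20308060004) (.node 2455 (.leaf 0x0) (.leaf 0x0)))) (.node 2459 (.node 2457 (.leaf 0x0) (.node 2458 (.leaf 0x100b0f0c0004) (.leaf 0x10001))) (.node 2460 (.leaf 0x10001) (.node 2461 (.leaf 0x0) (.leaf 0x0))))) (.node 2468 (.node 2465 (.node 2463 (.leaf 0x0) (.node 2464 (.leaf 0xd0001) (.leaf 0x0))) (.node 2466 (.leaf 0x0) (.node 2467 (.leaf 0x1050002) (.leaf 0x1020607090005)))) (.node 2471 (.node 2469 (.leaf 0x0) (.node 2470 (.leaf 0x20406070905080007) (.leaf 0x0))) (.node 2472 (.leaf 0x20709080004) (.node 2473 (.leaf 0x0) (.leaf 0x30107060705080007))))))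

def argWS_208 : Store := (.node 2451 argWS_206 argWS_207)

def argWS_209 : Store := (.node 2485 (.node 2479 (.node 2476 (.node 2475 (.leaf 0x0) (.leaf 0x20406070905080007)) (.node 2477 (.leaf 0x0) (.node 2478 (.leaf 0x607050705080007) (.leaf 0x0)))) (.node 2482 (.node 2480 (.leaf 0x1020607090005) (.node 2481 (.leaf 0x0) (.leaf 0x403070905080006))) (.node 2483 (.leaf 0x0) (.node 2484 (.leaf 0x403070905080006) (.leaf 0x0))))) (.node 2491 (.node 2488 (.node 2486 (.leaf 0x30107050705080007) (.node 2487 (.leaf 0x0) (.leaf 0x30107050705080007))) (.node 2489 (.leaf 0x0) (.node 2490 (.leaf 0x70100050004) (.leaf 0x0)))) (.node 2494 (.node 2492 (.leaf 0x1020607090005) (.node 2493 (.leaf 0x0) (.leaf 0x2010507060705080008))) (.node 2495 (.leaf 0x0) (.node 2496 (.leaf 0x1020607090005) (.leaf 0x0))))))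

def argWS_210 : Store := (.node 2509 (.node 2503 (.node 2500 (.node 2498 (.leaf 0x30107050705080007) (.node 2499 (.leaf 0x0) (.leaf 0x2010507060705080008))) (.node 2501 (.leaf 0x0) (.node 2502 (.leaf 0x3020108060705080008) (.leaf 0x0)))) (.node 2506 (.node 2504 (.leaf 0x3020108060705080008) (.node 2505 (.leaf 0x0) (.leaf 0x4020507060607090008))) (.node 2507 (.leaf 0x0) (.node 2508 (.leaf 0x2010507060705080008) (.leaf 0x0))))) (.node 2515 (.node 2512 (.node 2510 (.leaf 0x30809080004) (.node 2511 (.leaf 0x0) (.leaf 0x30107060705080007))) (.node 2513 (.leaf 0x0) (.node 2514 (.leaf 0x103060607090006) (.leaf 0x0)))) (.node 2518 (.node 2516 (.leaf 0x20406070905080007) (.node 2517 (.leaf 0x0) (.leaf 0x7020108050705080008))) (.node 2519 (.leaf 0x0) (.node 2520 (.leaf 0x30809080004) (.leaf 0x0))))))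

def argWS_211 : Store := (.node 2497 argWS_209 argWS_210)

def argWS_212 : Store := (.node 2474 argWS_208 argWS_211)

def argWS_213 : Store := (.node 2532 (.node 2526 (.node 2523 (.node 2522 (.leaf 0x70102060707090007) (.leaf 0x0)) (.node 2524 (.leaf 0x7020108050705080008) (.node 2525 (.leaf 0x0) (.leaf 0x70107050705080007)))) (.node 2529 (.node 2527 (.leaf 0x0) (.node 2528 (.leaf 0x70107050705080007) (.leaf 0x0))) (.node 2530 (.leaf 0x1020607090005) (.node 2531 (.leaf 0x0) (.leaf 0x30107050705080007))))) (.node 2538 (.node 2535 (.node 2533 (.leaf 0x0) (.node 2534 (.leaf 0x403070905080006) (.leaf 0x0))) (.node 2536 (.leaf 0x30107050705080007) (.node 2537 (.leaf 0x0) (.leaf 0x103050003)))) (.node 2541 (.node 2539 (.leaf 0x0) (.node 2540 (.leaf 0x403070905080006) (.leaf 0x0))) (.node 2542 (.leaf 0x20709080004) (.node 2543 (.leaf 0x0) (.leaf 0x70107050705080007))))))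

def argWS_214 : Store := (.node 2556 (.node 2550 (.node 2547 (.node 2545 (.leaf 0x0) (.node 2546 (.leaf 0x30005070004) (.leaf 0x0))) (.node 2548 (.leaf 0x30005070004) (.node 2549 (.leaf 0x0) (.leaf 0x2040607060005)))) (.node 2553 (.node 2551 (.leaf 0x0) (.node 2552 (.leaf 0x30107050705080007) (.leaf 0x0))) (.node 2554 (.leaf 0x20406070905080007) (.node 2555 (.leaf 0x0) (.leaf 0x1020607090005))))) (.node 2562 (.node 2559 (.node 2557 (.leaf 0x0) (.node 2558 (.leaf 0x7020105080005) (.leaf 0x0))) (.node 2560 (.leaf 0x1020607090005) (.node 2561 (.leaf 0x0) (.leaf 0x30005070004)))) (.node 2565 (.node 2563 (.leaf 0x0) (.node 2564 (.leaf 0x403070905080006) (.leaf 0x0))) (.node 2566 (.leaf 0x30809080004) (.node 2567 (.leaf 0x0) (.leaf 0x20406070905080007))))))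

def argWS_215 : Store := (.node 2544 argWS_213 argWS_214)

def argWS_216 : Store := (.node 2579 (.node 2573 (.node 2570 (.node 2569 (.leaf 0x0) (.leaf 0x304060709080607090009)) (.node 2571 (.leaf 0x0) (.node 2572 (.leaf 0x2040607060005) (.leaf 0x0)))) (.node 2576 (.node 2574 (.leaf 0x103050003) (.node 2575 (.leaf 0x0) (.leaf 0x304060709080607090009))) (.node 2577 (.leaf 0x0) (.node 2578 (.leaf 0x7020108060705080008) (.leaf 0x0))))) (.node 2585 (.node 2582 (.node 2580 (.leaf 0x20406070905080007) (.node 2581 (.leaf 0x0) (.leaf 0x607060705080007))) (.node 2583 (.leaf 0x0) (.node 2584 (.leaf 0x4020507060607090008) (.leaf 0x0)))) (.node 2588 (.node 2586 (.leaf 0x70102060707090007) (.node 2587 (.leaf 0x0) (.leaf 0x0))) (.node 2589 (.leaf 0x70100060607090007) (.node 2590 (.leaf 0x70100060607090007) (.leaf 0x0))))))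

def argWS_217 : Store := (.node 2603 (.node 2597 (.node 2594 (.node 2592 (.leaf 0x0) (.node 2593 (.leaf 0x0) (.leaf 0xc100002))) (.node 2595 (.leaf 0x20709080004) (.node 2596 (.leaf 0x0) (.leaf 0x3090002)))) (.node 2600 (.node 2598 (.leaf 0x0) (.node 2599 (.leaf 0x108060003) (.leaf 0x0))) (.node 2601 (.leaf 0x0) (.node 2602 (.leaf 0x0) (.leaf 0x20406070905080007))))) (.node 2609 (.node 2606 (.node 2604 (.leaf 0x3040108050005) (.node 2605 (.leaf 0x0) (.leaf 0xf0f0c0003))) (.node 2607 (.leaf 0x0) (.node 2608 (.leaf 0x0) (.leaf 0x0)))) (.node 2612 (.node 2610 (.leaf 0x0) (.node 2611 (.leaf 0x70905080004) (.leaf 0x80001))) (.node 2613 (.leaf 0x0) (.node 2614 (.leaf 0x0) (.leaf 0x2040107060005))))))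

def argWS_218 : Store := (.node 2591 argWS_216 argWS_217)

def argWS_219 : Store := (.node 2568 argWS_215 argWS_218)

def argWS_220 : Store := (.node 2521 argWS_212 argWS_219)

def argWS_221 : Store := (.node 2428 argWS_205 argWS_220)

def argWS_222 : Store := (.node 2626 (.node 2620 (.node 2617 (.node 2616 (.leaf 0x0) (.leaf 0x0)) (.node 2618 (.leaf 0x304060709080607090009) (.node 2619 (.leaf 0x1030507060705080008) (.leaf 0x0)))) (.node 2623 (.node 2621 (.leaf 0x0) (.node 2622 (.leaf 0x0) (.leaf 0xb0a0c0f0c0005))) (.node 2624 (.leaf 0x8060002) (.node 2625 (.leaf 0x0) (.leaf 0x0))))) (.node 2632 (.node 2629 (.node 2627 (.leaf 0xb0a0f0003) (.node 2628 (.leaf 0x4020507050005) (.leaf 0x10001))) (.node 2630 (.leaf 0x0) (.node 2631 (.leaf 0x0) (.leaf 0x0)))) (.node 2635 (.node 2633 (.leaf 0x0) (.node 2634 (.leaf 0x30405080004) (.leaf 0x304010607050006))) (.node 2636 (.leaf 0x0) (.node 2637 (.leaf 0xe100d0f0c0005) (.leaf 0x0))))))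

def argWS_223 : Store := (.node 2649 (.node 2643 (.node 2640 (.node 2639 (.leaf 0x0) (.leaf 0x0)) (.node 2641 (.leaf 0x0) (.node 2642 (.leaf 0x0) (.leaf 0x203060705080006)))) (.node 2646 (.node 2644 (.leaf 0x80001) (.node 2645 (.leaf 0x2030105070607090008) (.leaf 0x0))) (.node 2647 (.leaf 0x4010507060607090008) (.node 2648 (.leaf 0x0) (.leaf 0x0))))) (.node 2655 (.node 2652 (.node 2650 (.leaf 0x0) (.node 2651 (.leaf 0x0) (.leaf 0x110d0e0003))) (.node 2653 (.leaf 0x0) (.node 2654 (.leaf 0x0) (.leaf 0x0)))) (.node 2658 (.node 2656 (.leaf 0x0) (.node 2657 (.leaf 0x701070003) (.leaf 0x10001))) (.node 2659 (.leaf 0x10001) (.node 2660 (.leaf 0x0) (.leaf 0x0))))))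

def argWS_224 : Store := (.node 2638 argWS_222 argWS_223)

def argWS_225 : Store := (.node 2672 (.node 2666 (.node 2663 (.node 2662 (.leaf 0x0) (.leaf 0xe100e0003)) (.node 2664 (.leaf 0x108060003) (.node 2665 (.leaf 0x20008050705080007) (.leaf 0x0)))) (.node 2669 (.node 2667 (.leaf 0x0) (.node 2668 (.leaf 0x0) (.leaf 0xd110f0c0004))) (.node 2670 (.leaf 0x20709080004) (.node 2671 (.leaf 0x0) (.leaf 0x70001))))) (.node 2678 (.node 2675 (.node 2673 (.leaf 0x0) (.node 2674 (.leaf 0x0) (.leaf 0xe100f0003))) (.node 2676 (.leaf 0x0) (.node 2677 (.leaf 0x0) (.leaf 0x0)))) (.node 2681 (.node 2679 (.leaf 0x402010003) (.node 2680 (.leaf 0x0) (.leaf 0x3090002))) (.node 2682 (.leaf 0x70001) (.node 2683 (.leaf 0x0) (.leaf 0x100e0002))))))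

def argWS_226 : Store := (.node 2696 (.node 2690 (.node 2687 (.node 2685 (.leaf 0x0) (.node 2686 (.leaf 0x0) (.leaf 0x0))) (.node 2688 (.leaf 0x0) (.node 2689 (.leaf 0x409080607090006) (.leaf 0x304010705080006)))) (.node 2693 (.node 2691 (.leaf 0x0) (.node 2692 (.leaf 0x70001) (.leaf 0x0))) (.node 2694 (.leaf 0x0) (.node 2695 (.leaf 0x0) (.leaf 0x0))))) (.node 2702 (.node 2699 (.node 2697 (.leaf 0x8060705080006) (.node 2698 (.leaf 0x30007060004) (.leaf 0x0))) (.node 2700 (.leaf 0x0) (.node 2701 (.leaf 0x0) (.leaf 0xe110e0003)))) (.node 2705 (.node 2703 (.leaf 0x701070705080006) (.node 2704 (.leaf 0x0) (.leaf 0x0))) (.node 2706 (.leaf 0x40007050004) (.node 2707 (.leaf 0x80001) (.leaf 0x0))))))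

def argWS_227 : Store := (.node 2684 argWS_225 argWS_226)

def argWS_228 : Store := (.node 2661 argWS_224 argWS_227)

def argWS_229 : Store := (.node 2719 (.node 2713 (.node 2710 (.node 2709 (.leaf 0x110b0c0003) (.leaf 0x0)) (.node 2711 (.leaf 0x0) (.node 2712 (.leaf 0x0) (.leaf 0x0)))) (.node 2716 (.node 2714 (.leaf 0x40301060004) (.node 2715 (.leaf 0x201060003) (.leaf 0x0))) (.node 2717 (.leaf 0x8060002) (.node 2718 (.leaf 0x0) (.leaf 0x0))))) (.node 2725 (.node 2722 (.node 2720 (.leaf 0x0) (.node 2721 (.leaf 0x20709080004) (.leaf 0x0))) (.node 2723 (.leaf 0x0) (.node 2724 (.leaf 0x3090002) (.leaf 0x402010607050006)))) (.node 2728 (.node 2726 (.leaf 0x0) (.node 2727 (.leaf 0x0) (.leaf 0x0))) (.node 2729 (.leaf 0xd100d0f0c0005) (.node 2730 (.leaf 0x3090002) (.leaf 0x0))))))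

def argWS_230 : Store := (.node 2743 (.node 2737 (.node 2734 (.node 2732 (.leaf 0x201060705080006) (.node 2733 (.leaf 0x0) (.leaf 0x3010705080005))) (.node 2735 (.leaf 0x0) (.node 2736 (.leaf 0x0) (.leaf 0x0)))) (.node 2740 (.node 2738 (.leaf 0x102060705080006) (.node 2739 (.leaf 0x2010705080005) (.leaf 0x0))) (.node 2741 (.leaf 0x0) (.node 2742 (.leaf 0x0) (.leaf 0x60705080005))))) (.node 2749 (.node 2746 (.node 2744 (.leaf 0x1070002) (.node 2745 (.leaf 0x30107050004) (.leaf 0x0))) (.node 2747 (.leaf 0x0) (.node 2748 (.leaf 0x0) (.leaf 0x0)))) (.node 2752 (.node 2750 (.leaf 0xc100b0e0004) (.node 2751 (.leaf 0x90002) (.leaf 0x0))) (.node 2753 (.leaf 0x40108050004) (.node 2754 (.leaf 0x0) (.leaf 0x10406070607090007))))))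

def argWS_231 : Store := (.node 2731 argWS_229 argWS_230)

def argWS_232 : Store := (.node 2766 (.node 2760 (.node 2757 (.node 2756 (.leaf 0x0) (.leaf 0x30006070004)) (.node 2758 (.leaf 0x0) (.node 2759 (.leaf 0x10001) (.leaf 0x10001)))) (.node 2763 (.node 2761 (.leaf 0x0) (.node 2762 (.leaf 0x0) (.leaf 0x0))) (.node 2764 (.leaf 0x0) (.node 2765 (.leaf 0x30705080004) (.leaf 0x304060607090006))))) (.node 2772 (.node 2769 (.node 2767 (.leaf 0x0) (.node 2768 (.leaf 0xc100b0c0004) (.leaf 0x0))) (.node 2770 (.leaf 0x0) (.node 2771 (.leaf 0x0) (.leaf 0x0)))) (.node 2775 (.node 2773 (.leaf 0x20301050705080007) (.node 2774 (.leaf 0x400050705080006) (.leaf 0x0))) (.node 2776 (.leaf 0x70001) (.node 2777 (.leaf 0x30007050004) (.leaf 0x0))))))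

def argWS_233 : Store := (.node 2790 (.node 2784 (.node 2781 (.node 2779 (.leaf 0x0) (.node 2780 (.leaf 0x0) (.leaf 0x0))) (.node 2782 (.leaf 0xe110d0d0e0005) (.node 2783 (.leaf 0x10001) (.leaf 0x401050705080006)))) (.node 2787 (.node 2785 (.leaf 0x0) (.node 2786 (.leaf 0x10001) (.leaf 0x0))) (.node 2788 (.leaf 0x0) (.node 2789 (.leaf 0x0) (.leaf 0xc100b0c0004))))) (.node 2796 (.node 2793 (.node 2791 (.leaf 0x10001) (.node 2792 (.leaf 0x10001) (.leaf 0x2030809080005))) (.node 2794 (.leaf 0x0) (.node 2795 (.leaf 0x0) (.leaf 0x0)))) (.node 2799 (.node 2797 (.leaf 0x0) (.node 2798 (.leaf 0x2040107060005) (.leaf 0x0))) (.node 2800 (.leaf 0x0) (.node 2801 (.leaf 0x304060709080607090009) (.leaf 0x4030105070705080008))))))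

def argWS_234 : Store := (.node 2778 argWS_232 argWS_233)

def argWS_235 : Store := (.node 2755 argWS_231 argWS_234)

def argWS_236 : Store := (.node 2708 argWS_228 argWS_235)

def argWS_237 : Store := (.node 2813 (.node 2807 (.node 2804 (.node 2803 (.leaf 0x0) (.leaf 0x0)) (.node 2805 (.leaf 0x0) (.node 2806 (.leaf 0x110f0002) (.leaf 0xd110002)))) (.node 2810 (.node 2808 (.leaf 0x40001) (.node 2809 (.leaf 0x0) (.leaf 0x4050002))) (.node 2811 (.leaf 0x0) (.node 2812 (.leaf 0x302060705080006) (.leaf 0x0))))) (.node 2819 (.node 2816 (.node 2814 (.leaf 0x80001) (.node 2815 (.leaf 0x0) (.leaf 0x0))) (.node 2817 (.leaf 0x0) (.node 2818 (.leaf 0xd110d0d0e0005) (.leaf 0xb0001)))) (.node 2822 (.node 2820 (.leaf 0x0) (.node 2821 (.leaf 0x0) (.leaf 0x0))) (.node 2823 (.leaf 0x102060705080006) (.node 2824 (.leaf 0x0) (.leaf 0x0))))))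

def argWS_238 : Store := (.node 2836 (.node 2830 (.node 2827 (.node 2826 (.leaf 0x0) (.leaf 0x0)) (.node 2828 (.leaf 0x10207090004) (.node 2829 (.leaf 0xa0001) (.leaf 0x8050002)))) (.node 2833 (.node 2831 (.leaf 0x2010705080005) (.node 2832 (.leaf 0x0) (.leaf 0x0))) (.node 2834 (.leaf 0x0) (.node 2835 (.leaf 0x0) (.leaf 0x4050002))))) (.node 2842 (.node 2839 (.node 2837 (.leaf 0x30007060607090007) (.node 2838 (.leaf 0x0) (.leaf 0xa0e0002))) (.node 2840 (.leaf 0x0) (.node 2841 (.leaf 0x0) (.leaf 0x0)))) (.node 2845 (.node 2843 (.leaf 0x0) (.node 2844 (.leaf 0x0) (.leaf 0x1080002))) (.node 2846 (.leaf 0x0) (.node 2847 (.leaf 0x0) (.leaf 0x0))))))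

def argWS_239 : Store := (.node 2825 argWS_237 argWS_238)

def argWS_240 : Store := (.node 2859 (.node 2853 (.node 2850 (.node 2849 (.leaf 0x4020507050005) (.leaf 0x607060607090006)) (.node 2851 (.leaf 0x0) (.node 2852 (.leaf 0xf100b0d0e0005) (.leaf 0x0)))) (.node 2856 (.node 2854 (.leaf 0x0) (.node 2855 (.leaf 0x0) (.leaf 0x0))) (.node 2857 (.leaf 0x8050002) (.node 2858 (.leaf 0x0) (.leaf 0x0))))) (.node 2865 (.node 2862 (.node 2860 (.leaf 0xc100b0c0f0c0006) (.node 2861 (.leaf 0x0) (.leaf 0x108050003))) (.node 2863 (.leaf 0x0) (.node 2864 (.leaf 0x0) (.leaf 0x100d0f0c0004)))) (.node 2868 (.node 2866 (.leaf 0x0) (.node 2867 (.leaf 0xb0001) (.leaf 0x0))) (.node 2869 (.leaf 0x0) (.node 2870 (.leaf 0x40209080607090007) (.leaf 0x0))))))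

def argWS_241 : Store := (.node 2883 (.node 2877 (.node 2874 (.node 2872 (.leaf 0x0) (.node 2873 (.leaf 0x0) (.leaf 0x0))) (.node 2875 (.leaf 0x0) (.node 2876 (.leaf 0x705080004) (.leaf 0x0)))) (.node 2880 (.node 2878 (.leaf 0x0) (.node 2879 (.leaf 0x0) (.leaf 0x0))) (.node 2881 (.leaf 0x7010208060005) (.node 2882 (.leaf 0x80001) (.leaf 0x0))))) (.node 2889 (.node 2886 (.node 2884 (.leaf 0x0) (.node 2885 (.leaf 0x2040107060005) (.leaf 0x0))) (.node 2887 (.leaf 0x0) (.node 2888 (.leaf 0x304060709080607090009) (.leaf 0x20308050004)))) (.node 2892 (.node 2890 (.leaf 0x0) (.node 2891 (.leaf 0x0) (.leaf 0x0))) (.node 2893 (.leaf 0xd100f0c0004) (.node 2894 (.leaf 0xf100d0d0e0005) (.leaf 0x0))))))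

def argWS_242 : Store := (.node 2871 argWS_240 argWS_241)

def argWS_243 : Store := (.node 2848 argWS_239 argWS_242)

def argWS_244 : Store := (.node 2906 (.node 2900 (.node 2897 (.node 2896 (.leaf 0x0) (.leaf 0x70001)) (.node 2898 (.leaf 0x0) (.node 2899 (.leaf 0x0) (.leaf 0x0)))) (.node 2903 (.node 2901 (.leaf 0x30405080004) (.node 2902 (.leaf 0x70102050004) (.leaf 0x0))) (.node 2904 (.leaf 0x100b0d0e0004) (.node 2905 (.leaf 0x0) (.leaf 0x0))))) (.node 2912 (.node 2909 (.node 2907 (.leaf 0x0) (.node 2908 (.leaf 0x0) (.leaf 0x0))) (.node 2910 (.leaf 0x0) (.node 2911 (.leaf 0xc100b0f0c0005) (.leaf 0x1080002)))) (.node 2915 (.node 2913 (.leaf 0x0) (.node 2914 (.leaf 0x0) (.leaf 0x0))) (.node 2916 (.leaf 0x8060705080006) (.node 2917 (.leaf 0x0) (.leaf 0x0))))))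

def argWS_245 : Store := (.node 2930 (.node 2924 (.node 2921 (.node 2919 (.leaf 0x402010607050006) (.node 2920 (.leaf 0x1000507050705080008) (.leaf 0x0))) (.node 2922 (.leaf 0x0) (.node 2923 (.leaf 0x0) (.leaf 0xd100d0e0004)))) (.node 2927 (.node 2925 (.leaf 0x0) (.node 2926 (.leaf 0x100b0d0f0c0005) (.leaf 0x10001))) (.node 2928 (.leaf 0x0) (.node 2929 (.leaf 0x0) (.leaf 0x20401050004))))) (.node 2936 (.node 2933 (.node 2931 (.leaf 0x0) (.node 2932 (.leaf 0x0) (.leaf 0x607090004))) (.node 2934 (.leaf 0x0) (.node 2935 (.leaf 0x0) (.leaf 0xa0001)))) (.node 2939 (.node 2937 (.leaf 0x607090003) (.node 2938 (.leaf 0x0) (.leaf 0x0))) (.node 2940 (.leaf 0x0) (.node 2941 (.leaf 0x0) (.leaf 0x607090004))))))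

def argWS_246 : Store := (.node 2918 argWS_244 argWS_245)

def argWS_247 : Store := (.node 2953 (.node 2947 (.node 2944 (.node 2943 (.leaf 0x304010705080006) (.leaf 0x0)) (.node 2945 (.leaf 0x70001) (.node 2946 (.leaf 0x0) (.leaf 0x0)))) (.node 2950 (.node 2948 (.leaf 0x0) (.node 2949 (.leaf 0x40001) (.leaf 0x0))) (.node 2951 (.leaf 0x0) (.node 2952 (.leaf 0x4060002) (.leaf 0x108060607090006))))) (.node 2959 (.node 2956 (.node 2954 (.leaf 0x0) (.node 2955 (.leaf 0x0) (.leaf 0x0))) (.node 2957 (.leaf 0xc100b0c0004) (.node 2958 (.leaf 0x0) (.leaf 0x701070705080006)))) (.node 2962 (.node 2960 (.leaf 0x701070705080006) (.node 2961 (.leaf 0x0) (.leaf 0x0))) (.node 2963 (.leaf 0x0) (.node 2964 (.leaf 0x20709080004) (.leaf 0x0))))))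

def argWS_248 : Store := (.node 2977 (.node 2971 (.node 2968 (.node 2966 (.leaf 0x3090002) (.node 2967 (.leaf 0x0) (.leaf 0x0))) (.node 2969 (.leaf 0x4020507050005) (.node 2970 (.leaf 0x304010607060607090009) (.leaf 0x0)))) (.node 2974 (.node 2972 (.leaf 0x0) (.node 2973 (.leaf 0x0) (.leaf 0xd0f0c0003))) (.node 2975 (.leaf 0x0) (.node 2976 (.leaf 0x0) (.leaf 0x10001))))) (.node 2983 (.node 2980 (.node 2978 (.leaf 0x80001) (.node 2979 (.leaf 0x0) (.leaf 0x10001))) (.node 2981 (.leaf 0x80001) (.node 2982 (.leaf 0x0) (.leaf 0x10001)))) (.node 2986 (.node 2984 (.leaf 0x8060002) (.node 2985 (.leaf 0x108060003) (.leaf 0x0))) (.node 2987 (.leaf 0x10001) (.node 2988 (.leaf 0x0) (.leaf 0x10001))))))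

def argWS_249 : Store := (.node 2965 argWS_247 argWS_248)

def argWS_250 : Store := (.node 2942 argWS_246 argWS_249)

def argWS_251 : Store := (.node 2895 argWS_243 argWS_250)

def argWS_252 : Store := (.node 2802 argWS_236 argWS_251)

def argWS_253 : Store := (.node 2615 argWS_221 argWS_252)

def argWS_254 : Store := (.node 2241 argWS_190 argWS_253)

def argWS : Store := (.node 1494 argWS_127 argWS_254)

def nodeSrcS : Store := (.node 1 (.leaf 0x15001500150015001500140014001400140013001300130013001300130013001200120012001200120012001200120011001100110011001100110011001100100010001000100010001000100010000f000f000f000f000f000f000f000f000e000e000e000e000d000d000d000d000d000d000d000d000c000c000c000c000c000c000c000c000b000b000b000b000b000b000b000b000a000a000a000a000a000a000a000a00090009000900090009000900090009000800080008000800080008000800080007000700060006000500050005000500050005000500050004000400040004000400040004000400030003000300030002000100000000)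 (.node 2 (.leaf 0x2a002a00290029002900290029002900290029002800280028002800280028002700270027002700270027002700270026002600260026002600260025002500250025002500250025002500240024002400240024002400240023002300230023002300230023002300220022002200220022002200210021002100210021002100210021002000200020002000200020001f001f001f001f001f001f001f001f001e001e001e001e001e001e001e001e001d001d001d001d001d001d001d001d001c001c001c001c001c001c001c001c001b001b001a001a0019001900190018001800170017001700170017001700170016001600160016001500150015) (.leaf 0x2d002d002d002c002c002c002c002c002c002b002b002b002b002b002b002b002b002a002a002a002a)))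

noncomputable def nodeSrc : Nat → Nat := get16 nodeSrcS

def nodeWS_1 : Store := (.node 8 (.node 4 (.node 2 (.node 1 (.leaf 0x0) (.leaf 0x0)) (.node 3 (.leaf 0x80001) (.leaf 0x80001))) (.node 6 (.node 5 (.leaf 0x80001) (.leaf 0x70001)) (.node 7 (.leaf 0x8060002) (.leaf 0x108060003)))) (.node 12 (.node 10 (.node 9 (.leaf 0x80001) (.leaf 0x70001)) (.node 11 (.leaf 0x1080002) (.leaf 0x1070002))) (.node 14 (.node 13 (.leaf 0x8060002) (.leaf 0x8050002)) (.node 15 (.leaf 0x108060003) (.node 16 (.leaf 0x108050003) (.leaf 0x80001))))))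

def nodeWS_2 : Store := (.node 25 (.node 21 (.node 19 (.node 18 (.leaf 0x70001) (.leaf 0x1080002)) (.node 20 (.leaf 0x1070002) (.leaf 0x8060002))) (.node 23 (.node 22 (.leaf 0x8050002) (.leaf 0x108060003)) (.node 24 (.leaf 0x108050003) (.leaf 0x80001)))) (.node 29 (.node 27 (.node 26 (.leaf 0x70001) (.leaf 0x70001)) (.node 28 (.leaf 0x1070002) (.leaf 0x80001))) (.node 31 (.node 30 (.leaf 0x70001) (.leaf 0x1080002)) (.node 32 (.leaf 0x1070002) (.node 33 (.leaf 0x8060002) (.leaf 0x8050002))))))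

def nodeWS_3 : Store := (.node 17 nodeWS_1 nodeWS_2)

def nodeWS_4 : Store := (.node 42 (.node 38 (.node 36 (.node 35 (.leaf 0x108060003) (.leaf 0x108050003)) (.node 37 (.leaf 0x80001) (.leaf 0x70001))) (.node 40 (.node 39 (.leaf 0x1080002) (.leaf 0x1070002)) (.node 41 (.leaf 0x8060002) (.leaf 0x8050002)))) (.node 46 (.node 44 (.node 43 (.leaf 0x108060003) (.leaf 0x108050003)) (.node 45 (.leaf 0x80001) (.leaf 0x70001))) (.node 48 (.node 47 (.leaf 0x1080002) (.leaf 0x1070002)) (.node 49 (.leaf 0x8060002) (.node 50 (.leaf 0x8050002) (.leaf 0x108060003))))))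

def nodeWS_5 : Store := (.node 60 (.node 55 (.node 53 (.node 52 (.leaf 0x108050003) (.leaf 0x80001)) (.node 54 (.leaf 0x70001) (.leaf 0x1080002))) (.node 57 (.node 56 (.leaf 0x1070002) (.leaf 0x8060002)) (.node 58 (.leaf 0x8050002) (.node 59 (.leaf 0x108060003) (.leaf 0x108050003))))) (.node 64 (.node 62 (.node 61 (.leaf 0x80001) (.leaf 0x70001)) (.node 63 (.leaf 0x1080002) (.leaf 0x1070002))) (.node 66 (.node 65 (.leaf 0x8060002) (.leaf 0x8050002)) (.node 67 (.leaf 0x108060003) (.node 68 (.leaf 0x108050003) (.leaf 0x80001))))))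

def nodeWS_6 : Store := (.node 51 nodeWS_4 nodeWS_5)

def nodeWS_7 : Store := (.node 34 nodeWS_3 nodeWS_6)

def nodeWS_8 : Store := (.node 77 (.node 73 (.node 71 (.node 70 (.leaf 0x70001) (.leaf 0x1080002)) (.node 72 (.leaf 0x1070002) (.leaf 0x8060002))) (.node 75 (.node 74 (.leaf 0x8050002) (.leaf 0x108060003)) (.node 76 (.leaf 0x108050003) (.leaf 0x70001)))) (.node 81 (.node 79 (.node 78 (.leaf 0x1070002) (.leaf 0x8050002)) (.node 80 (.leaf 0x108050003) (.leaf 0x80001))) (.node 83 (.node 82 (.leaf 0x70001) (.leaf 0x1080002)) (.node 84 (.leaf 0x1070002) (.node 85 (.leaf 0x8060002) (.leaf 0x8050002))))))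

def nodeWS_9 : Store := (.node 94 (.node 90 (.node 88 (.node 87 (.leaf 0x108060003) (.leaf 0x108050003)) (.node 89 (.leaf 0x80001) (.leaf 0x70001))) (.node 92 (.node 91 (.leaf 0x1080002) (.leaf 0x1070002)) (.node 93 (.leaf 0x8060002) (.leaf 0x8050002)))) (.node 98 (.node 96 (.node 95 (.leaf 0x108060003) (.leaf 0x108050003)) (.node 97 (.leaf 0x80001) (.leaf 0x70001))) (.node 100 (.node 99 (.leaf 0x1080002) (.leaf 0x1070002)) (.node 101 (.leaf 0x8060002) (.node 102 (.leaf 0x8050002) (.leaf 0x108060003))))))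

def nodeWS_10 : Store := (.node 86 nodeWS_8 nodeWS_9)

def nodeWS_11 : Store := (.node 111 (.node 107 (.node 105 (.node 104 (.leaf 0x108050003) (.leaf 0x80001)) (.node 106 (.leaf 0x70001) (.leaf 0x1080002))) (.node 109 (.node 108 (.leaf 0x1070002) (.leaf 0x8060002)) (.node 110 (.leaf 0x8050002) (.leaf 0x108060003)))) (.node 115 (.node 113 (.node 112 (.leaf 0x108050003) (.leaf 0x80001)) (.node 114 (.leaf 0x70001) (.leaf 0x1080002))) (.node 117 (.node 116 (.leaf 0x1070002) (.leaf 0x8060002)) (.node 118 (.leaf 0x8050002) (.node 119 (.leaf 0x108060003) (.leaf 0x80001))))))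

def nodeWS_12 : Store := (.node 129 (.node 124 (.node 122 (.node 121 (.leaf 0x1080002) (.leaf 0x8060002)) (.node 123 (.leaf 0x108060003) (.leaf 0x80001))) (.node 126 (.node 125 (.leaf 0x70001) (.leaf 0x1080002)) (.node 127 (.leaf 0x1070002) (.node 128 (.leaf 0x8060002) (.leaf 0x8050002))))) (.node 133 (.node 131 (.node 130 (.leaf 0x108060003) (.leaf 0x108050003)) (.node 132 (.leaf 0x80001) (.leaf 0x1080002))) (.node 135 (.node 134 (.leaf 0x8060002) (.leaf 0x108060003)) (.node 136 (.leaf 0x80001) (.node 137 (.leaf 0x70001) (.leaf 0x1080002))))))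

def nodeWS_13 : Store := (.node 120 nodeWS_11 nodeWS_12)

def nodeWS_14 : Store := (.node 103 nodeWS_10 nodeWS_13)

def nodeWS_15 : Store := (.node 69 nodeWS_7 nodeWS_14)

def nodeWS_16 : Store := (.node 146 (.node 142 (.node 140 (.node 139 (.leaf 0x1070002) (.leaf 0x8060002)) (.node 141 (.leaf 0x8050002) (.leaf 0x108050003))) (.node 144 (.node 143 (.leaf 0x70001) (.leaf 0x1070002)) (.node 145 (.leaf 0x80001) (.leaf 0x70001)))) (.node 150 (.node 148 (.node 147 (.leaf 0x1070002) (.leaf 0x80001)) (.node 149 (.leaf 0x1080002) (.leaf 0x80001))) (.node 152 (.node 151 (.leaf 0x1080002) (.leaf 0x80001)) (.node 153 (.leaf 0x70001) (.node 154 (.leaf 0x1080002) (.leaf 0x1070002))))))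

def nodeWS_17 : Store := (.node 163 (.node 159 (.node 157 (.node 156 (.leaf 0x8060002) (.leaf 0x8050002)) (.node 158 (.leaf 0x108060003) (.leaf 0x108050003))) (.node 161 (.node 160 (.leaf 0x80001) (.leaf 0x70001)) (.node 162 (.leaf 0x1080002) (.leaf 0x1070002)))) (.node 167 (.node 165 (.node 164 (.leaf 0x8060002) (.leaf 0x8050002)) (.node 166 (.leaf 0x108060003) (.leaf 0x108050003))) (.node 169 (.node 168 (.leaf 0x80001) (.leaf 0x70001)) (.node 170 (.leaf 0x1080002) (.node 171 (.leaf 0x1070002) (.leaf 0x8060002))))))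

def nodeWS_18 : Store := (.node 155 nodeWS_16 nodeWS_17)

def nodeWS_19 : Store := (.node 180 (.node 176 (.node 174 (.node 173 (.leaf 0x8050002) (.leaf 0x108060003)) (.node 175 (.leaf 0x108050003) (.leaf 0x80001))) (.node 178 (.node 177 (.leaf 0x70001) (.leaf 0x1080002)) (.node 179 (.leaf 0x1070002) (.leaf 0x8060002)))) (.node 184 (.node 182 (.node 181 (.leaf 0x8050002) (.leaf 0x108060003)) (.node 183 (.leaf 0x108050003) (.leaf 0x80001))) (.node 186 (.node 185 (.leaf 0x70001) (.leaf 0x1080002)) (.node 187 (.leaf 0x1070002) (.node 188 (.leaf 0x8050002) (.leaf 0x108050003))))))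

def nodeWS_20 : Store := (.node 198 (.node 193 (.node 191 (.node 190 (.leaf 0x80001) (.leaf 0x70001)) (.node 192 (.leaf 0x1080002) (.leaf 0x1070002))) (.node 195 (.node 194 (.leaf 0x8060002) (.leaf 0x8050002)) (.node 196 (.leaf 0x108060003) (.node 197 (.leaf 0x108050003) (.leaf 0x70001))))) (.node 202 (.node 200 (.node 199 (.leaf 0x1070002) (.leaf 0x8060002)) (.node 201 (.leaf 0x8050002) (.leaf 0x108060003))) (.node 204 (.node 203 (.leaf 0x108050003) (.leaf 0x80001)) (.node 205 (.leaf 0x70001) (.node 206 (.leaf 0x1080002) (.leaf 0x1070002))))))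

def nodeWS_21 : Store := (.node 189 nodeWS_19 nodeWS_20)

def nodeWS_22 : Store := (.node 172 nodeWS_18 nodeWS_21)

def nodeWS_23 : Store := (.node 215 (.node 211 (.node 209 (.node 208 (.leaf 0x8060002) (.leaf 0x8050002)) (.node 210 (.leaf 0x108060003) (.leaf 0x108050003))) (.node 213 (.node 212 (.leaf 0x80001) (.leaf 0x70001)) (.node 214 (.leaf 0x1070002) (.leaf 0x8060002)))) (.node 219 (.node 217 (.node 216 (.leaf 0x8050002) (.leaf 0x108060003)) (.node 218 (.leaf 0x108050003) (.leaf 0x80001))) (.node 221 (.node 220 (.leaf 0x70001) (.leaf 0x1080002)) (.node 222 (.leaf 0x1070002) (.node 223 (.leaf 0x8060002) (.leaf 0x8050002))))))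

def nodeWS_24 : Store := (.node 233 (.node 228 (.node 226 (.node 225 (.leaf 0x108060003) (.leaf 0x108050003)) (.node 227 (.leaf 0x80001) (.leaf 0x70001))) (.node 230 (.node 229 (.leaf 0x1080002) (.leaf 0x1070002)) (.node 231 (.leaf 0x8050002) (.node 232 (.leaf 0x108050003) (.leaf 0x80001))))) (.node 237 (.node 235 (.node 234 (.leaf 0x70001) (.leaf 0x1080002)) (.node 236 (.leaf 0x1070002) (.leaf 0x8060002))) (.node 239 (.node 238 (.leaf 0x8050002) (.leaf 0x108060003)) (.node 240 (.leaf 0x108050003) (.node 241 (.leaf 0x80001) (.leaf 0x70001))))))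

def nodeWS_25 : Store := (.node 224 nodeWS_23 nodeWS_24)

def nodeWS_26 : Store := (.node 250 (.node 246 (.node 244 (.node 243 (.leaf 0x1080002) (.leaf 0x1070002)) (.node 245 (.leaf 0x8060002) (.leaf 0x108060003))) (.node 248 (.node 247 (.leaf 0x80001) (.leaf 0x70001)) (.node 249 (.leaf 0x1080002) (.leaf 0x1070002)))) (.node 254 (.node 252 (.node 251 (.leaf 0x8060002) (.leaf 0x8050002)) (.node 253 (.leaf 0x108060003) (.leaf 0x108050003))) (.node 256 (.node 255 (.leaf 0x80001) (.leaf 0x1080002)) (.node 257 (.leaf 0x8060002) (.node 258 (.leaf 0x8050002) (.leaf 0x108060003))))))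

def nodeWS_27 : Store := (.node 268 (.node 263 (.node 261 (.node 260 (.leaf 0x108050003) (.leaf 0x80001)) (.node 262 (.leaf 0x70001) (.leaf 0x1080002))) (.node 265 (.node 264 (.leaf 0x1070002) (.leaf 0x8060002)) (.node 266 (.leaf 0x8050002) (.node 267 (.leaf 0x108060003) (.leaf 0x108050003))))) (.node 272 (.node 270 (.node 269 (.leaf 0x80001) (.leaf 0x70001)) (.node 271 (.leaf 0x1080002) (.leaf 0x1070002))) (.node 274 (.node 273 (.leaf 0x8050002) (.leaf 0x108050003)) (.node 275 (.leaf 0x80001) (.node 276 (.leaf 0x70001) (.leaf 0x1080002))))))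

def nodeWS_28 : Store := (.node 259 nodeWS_26 nodeWS_27)

def nodeWS_29 : Store := (.node 242 nodeWS_25 nodeWS_28)

def nodeWS_30 : Store := (.node 207 nodeWS_22 nodeWS_29)

def nodeWS : Store := (.node 138 nodeWS_15 nodeWS_30)

def nodeTS : Store := (.node 1 (.leaf 0x10001000100010001000100010001000100010001000100010001000100010001000100010001000100010001000100010001000100010001000100010001000100010001000100010001000100010001000100010001000100010001000100010001000100010001000100010001000100010001000100010001000100010001000100010001000100010001000100010001000100010001000100010001000100010001000100010001000100010001000100010001000100010001000100010001000100010001000100010001000100010001000100010001000100010001000100010001000100010001000100010001000100010001000100010000) (.node 2 (.leaf 0x10001000100010001000100010001000100010001000100010001000100010001000100010001000100010001000100010001000100010001000100010001000100010001000100010001000100010001000100010001000100010001000100010001000100010001000100010001000100010001000100010001000100010001000100010001000100010001000100010001000100010001000100010001000100010001000100010001000100010001000100010001000100010001000100010001000100010001000100010001000100010001000100010001000100010001000100010001000100010001000100010001000100010001000100010001)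 (.leaf 0x100010001000100010001000100010001000100010001000100010001000100010001000100010001)))

noncomputable def nodeT : Nat → Nat := get16 nodeTS


end Cfsg.Agent.JThreeUniq.Cert1
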